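import Groth.Agent.Coherent.K51.CIGood
import Groth.Agent.Coherent.K51.CIDim
import Groth.Agent.Ega4A.QuotLoc
import Groth.Agent.Ega4B.DimFT
import Groth.Agent.S1697
import Groth.Agent.Lefx.H80.NhdPic
import Groth.Agent.S10962
import Groth.Agent.Sga5.AmpleFib
import Groth.Agent.Ega4dA.LocalRingCrit
import Groth.Agent.Sga2lef.H89.EtCI
import Groth.Agent.S2949
import Groth.Agent.S3353

/-!
# Picard groups of complete intersections of dimension at least three
-/

set_option autoImplicit false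
universe u
open CategoryTheory CategoryTheory.Limits AlgebraicGeometry TopologicalSpace MvPolynomial IsLocalRing

namespace Groth.Agent.LefX.K947.CIPic

open LefPen Groth.Agent.Lefpen.H718.Chart Groth.Agent.Coherent.K51

section Alg

variable {S T : Type u} [CommRing S] [CommRing T] [IsNoetherianRing S]

/-- A quotient of a regular ring by a (weakly) regular sequence has complete intersection local rings. -/
theorem absCI_of_surj (f : S →+* T) (hf : Function.Surjective f) (rs : List S)
    (hrs : RingTheory.Sequence.IsWeaklyRegular S rs) (hker : RingHom.ker f = Ideal.ofList rs)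
    (r : Ideal T) [r.IsPrime] (hreg : IsRegularLocalRing (Localization.AtPrime (r.comap f))) :
    SGA2.IsAbsCompleteIntersection (Localization.AtPrime r) ∧
      ringKrullDim (Localization.AtPrime r) + rs.length = (r.comap f).height := by
  have h1 := hrs.of_isLocalization (Localization.AtPrime (r.comap f)) (r.comap f).primeCompl
  have hmem : ∀ x ∈ rs.map (algebraMap S (Localization.AtPrime (r.comap f))),
      x ∈ maximalIdeal (Localization.AtPrime (r.comap f)) := by
    intro x hx
    obtain ⟨y, hy, rfl⟩ := List.mem_map.1 hx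
    rw [← Localization.AtPrime.map_eq_maximalIdeal]
    refine Ideal.mem_map_of_mem _ ?_
    have h2 : y ∈ RingHom.ker f := by
      rw [hker]
      exact Ideal.subset_span hy
    rw [Ideal.mem_comap, (RingHom.mem_ker).1 h2]
    exact zero_mem _
  have h3 : RingTheory.Sequence.IsRegular (Localization.AtPrime (r.comap f))
      (rs.map (algebraMap S (Localization.AtPrime (r.comap f)))) :=
    (IsLocalRing.isRegular_iff_isWeaklyRegular_of_subset_maximalIdeal hmem).2 h1
  have h4 : (Ideal.ofList rs).map (algebraMap S (Localization.AtPrime (r.comap f))) =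
      Ideal.ofList (rs.map (algebraMap S (Localization.AtPrime (r.comap f)))) := Ideal.map_ofList _ _
  have e : Nonempty (Localization.AtPrime r ≃+* (Localization.AtPrime (r.comap f) ⧸
      Ideal.ofList (rs.map (algebraMap S (Localization.AtPrime (r.comap f)))))) := by
    have h5 : ((Ideal.ofList rs).map f).map (algebraMap T (Localization.AtPrime r)) = ⊥ := by
      rw [← hker, Ideal.map_map, eq_bot_iff, Ideal.map_le_iff_le_comap]
      intro x hx
      rw [Ideal.mem_comap, RingHom.comp_apply, (RingHom.mem_ker).1 hx, map_zero]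
      exact zero_mem _
    exact ⟨((RingEquiv.quotientBot _).symm.trans (Ideal.quotEquivOfEq h5.symm)).trans
      ((Groth.Agent.Ega4A.QuotLoc.quotLocEquiv f hf r (r.comap f) rfl (Ideal.ofList rs) hker.le).symm.trans
        (Ideal.quotEquivOfEq h4))⟩
  refine ⟨⟨Localization.AtPrime (r.comap f), inferInstance, hreg, _, hmem, h3, e⟩, ?_⟩
  obtain ⟨e⟩ := e
  have h6 := ringKrullDim_add_length_eq_ringKrullDim_of_isRegular _ h3
  rw [List.length_map, ← ringKrullDim_eq_of_ringEquiv e, IsLocalization.AtPrime.ringKrullDim_eq_height (r.comap f) (Localization.AtPrime (r.comap f))] at h6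
  exact h6

end Alg

variable {N r : ℕ} {k : Type u} [Field k] {a : Fin r → ℕ} (G : ∀ j : Fin r, Form N k (a j))

/-- Local rings of complete intersections. -/
theorem stalk_ci (h : CIReg.IsReg G) (hr : r ≤ N) (x : Y G) :
    SGA2.IsAbsCompleteIntersection ((Y G).presheaf.stalk x) ∧
      (IsClosed ({x} : Set (Y G)) → ringKrullDim ((Y G).presheaf.stalk x) = ((N - r : ℕ) : WithBot ℕ∞)) := by
  obtain ⟨j, hj⟩ : ∃ j, x ∈ ychart G j := by
    have h1 : x ∈ ⨆ j, ychart G j := by
      rw [Groth.Agent.Lefpen.H708.Geo.iSup_preimage_chart (yι G)]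
      trivial
    exact Opens.mem_iSup.1 h1
  have hU := isAffineOpen_ychart G j
  let := (Y G).presheaf.algebra_section_stalk (⟨x, hj⟩ : ychart G j)
  have hloc : IsLocalization.AtPrime ((Y G).presheaf.stalk x) (hU.primeIdealOf ⟨x, hj⟩).asIdeal :=
    hU.isLocalization_stalk ⟨x, hj⟩
  let e : (Y G).presheaf.stalk x ≃+* Localization.AtPrime (hU.primeIdealOf ⟨x, hj⟩).asIdeal :=
    (IsLocalization.algEquiv (hU.primeIdealOf ⟨x, hj⟩).asIdeal.primeCompl _ _).toRingEquiv
  have hreg : IsRegularLocalRing (Localization.AtPrime ((hU.primeIdealOf ⟨x, hj⟩).asIdeal.comap (toY G j))) :=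
    inferInstance
  obtain ⟨⟨B, _, hB, rs, h1, h2, ⟨e'⟩⟩, h3⟩ := absCI_of_surj (toY G j) (toY_surjective G j) _
    (CIDim.isWeaklyRegular_dehom h j) (by rw [CIAlg.ofList_ofFn, ker_toY])
    (hU.primeIdealOf ⟨x, hj⟩).asIdeal hreg
  refine ⟨⟨B, inferInstance, hB, rs, h1, h2, ⟨e.trans e'⟩⟩, fun hx => ?_⟩
  have hmax : (hU.primeIdealOf ⟨x, hj⟩).asIdeal.IsMaximal := by
    rw [← PrimeSpectrum.isClosed_singleton_iff_isMaximal]
    have h5 : ({hU.primeIdealOf ⟨x, hj⟩} : Set _) = hU.fromSpec ⁻¹' {x} := by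
      ext q
      constructor
      · rintro rfl
        exact hU.fromSpec_primeIdealOf ⟨x, hj⟩
      · intro hq
        apply hU.fromSpec.isOpenEmbedding.injective
        rw [hU.fromSpec_primeIdealOf ⟨x, hj⟩]
        exact hq
    rw [h5]
    exact hx.preimage hU.fromSpec.continuous
  have hmax' : ((hU.primeIdealOf ⟨x, hj⟩).asIdeal.comap (toY G j)).IsMaximal :=
    Ideal.comap_isMaximal_of_surjective _ (toY_surjective G j)
  rw [Groth.Agent.Ega4B.DimFT.height_eq_of_isMaximal_mvPolynomial_fin k N, List.length_ofFn,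
    ← ringKrullDim_eq_of_ringEquiv e] at h3
  have h6 : ((N - r : ℕ) : WithBot ℕ∞) + (r : ℕ) = ((N : ℕ∞) : WithBot ℕ∞) := by
    rw [← Nat.cast_add, Nat.sub_add_cancel hr]
    rfl
  rw [← h6] at h3
  exact ENat.WithBot.add_natCast_cancel.1 h3

/-- Powers of the ideal of a divisor in the class `O(-b)`. -/
theorem nonempty_tensorPow {Z : Scheme.{u}} (f : Z ⟶ CohB1.ProjSpace N k) (J : Z.IdealSheafData) {b : ℕ}
    (hJ : Nonempty (ClSub.idealMod J ≅ (Scheme.Modules.pullback f).obj (Twist.twistProjSpace N k (-(b : ℤ)))))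
    (m : ℕ) : Nonempty (CohB1.tensorPow (ClSub.idealMod J) m ≅
      (Scheme.Modules.pullback f).obj (Twist.twistProjSpace N k (-((m * b : ℕ) : ℤ)))) := by
  induction m with
  | zero =>
    obtain ⟨e⟩ := Groth.Agent.S10962.nonempty_twist_zero (n := N) (R := k)
    simp only [Nat.zero_mul, Nat.cast_zero, neg_zero]
    exact ⟨((Groth.Agent.Ega3B.PullTensor.nonempty_pullUnitIso f).some).symm ≪≫ (Scheme.Modules.pullback f).mapIso e.symm⟩
  | succ m ih =>
    obtain ⟨e⟩ := ih
    obtain ⟨e'⟩ := CIGood.nonempty_tensor_ideal f J hJ (-((m * b : ℕ) : ℤ))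
    have h : (-((m * b : ℕ) : ℤ)) - b = -(((m + 1) * b : ℕ) : ℤ) := by push_cast; ring
    rw [h] at e'
    exact ⟨Groth.Agent.Ega2.Tens.mapTIso e (Iso.refl _) ≪≫ e'⟩

/-- The induction step. -/
theorem gen_step {Z : Scheme.{u}} [Z.Over (Spec (CommRingCat.of k))] [IsProper (Z ↘ Spec (CommRingCat.of k))]
    (f : Z ⟶ CohB1.ProjSpace N k) [IsClosedImmersion f] (J : Z.IdealSheafData) {b : ℕ} (hb : 1 ≤ b)
    (hJ : Nonempty (ClSub.idealMod J ≅ (Scheme.Modules.pullback f).obj (Twist.twistProjSpace N k (-(b : ℤ)))))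
    {d : ℕ} (hd : 3 ≤ d) (hgood : CIGood.Good (J.subschemeι ≫ f) d)
    (hci : ∀ x : Z, IsClosed ({x} : Set Z) → SGA2.IsAbsCompleteIntersection (Z.presheaf.stalk x) ∧
      (4 : WithBot ℕ∞) ≤ ringKrullDim (Z.presheaf.stalk x))
    (hgen : ∀ L : Z.Modules, PicF.IsInvertible L → ∃ e : ℤ,
      Nonempty (L ≅ (Scheme.Modules.pullback f).obj (Twist.twistProjSpace N k e)))
    (L : J.subscheme.Modules) (hL : PicF.IsInvertible L) : ∃ e : ℤ,
      Nonempty (L ≅ (Scheme.Modules.pullback (J.subschemeι ≫ f)).obj (Twist.twistProjSpace N k e)) := by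
  have hln : IsLocallyNoetherian Z := LocallyOfFiniteType.isLocallyNoetherian (Z ↘ Spec (CommRingCat.of k))
  have hinv : ClSub.IsInverseOf ((Scheme.Modules.pullback f).obj (Twist.twistProjSpace N k b)) (ClSub.idealMod J) := by
    obtain ⟨e⟩ := CIGood.nonempty_tensor_ideal f J hJ b
    obtain ⟨e0⟩ := Groth.Agent.S10962.nonempty_twist_zero (n := N) (R := k)
    rw [sub_self] at e
    exact ⟨e ≪≫ (Scheme.Modules.pullback f).mapIso e0 ≪≫ (Groth.Agent.Ega3B.PullTensor.nonempty_pullUnitIso f).some⟩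
  have hamp : CohB1.IsAmple ((Scheme.Modules.pullback f).obj (Twist.twistProjSpace N k b)) :=
    Groth.Agent.Sga5.AmpleFib.isAmple_pullback f (Groth.Agent.S10962.isAmple_of_pos k N (by exact_mod_cast hb))
  have key := (Groth.Agent.S2949.result k Z J _ hinv hamp (fun x hx => ?_) (fun m hm i hi => ?_)
    (fun x hx hxs => ?_)).2 L hL
  · obtain ⟨M, hM, ⟨e⟩⟩ := key
    obtain ⟨n, ⟨e'⟩⟩ := hgen M hM
    exact ⟨n, ⟨e.symm ≪≫ (Scheme.Modules.pullback J.subschemeι).mapIso e' ≪≫
      (Scheme.Modules.pullbackComp J.subschemeι f).app _⟩⟩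
  · exact Groth.Agent.Sga2lef.H89.EtCI.depth_of_ci _ (hci x hx).1 2 (le_trans (by norm_num) (hci x hx).2)
  · obtain ⟨e⟩ := nonempty_tensorPow f J hJ m
    have h1 := hgood.van (-((m * b : ℕ) : ℤ)) i (by omega) (by omega)
    have h2 := Groth.Agent.Flat2F.HHSeq.subsingleton_HH_of_iso
      ((Scheme.Modules.pullbackComp J.subschemeι f).symm.app _ ≪≫
        (Scheme.Modules.pullback J.subschemeι).mapIso e.symm) i h1
    have h3 : Subsingleton (Coh.HH Z ((Scheme.Modules.pushforward J.subschemeι).obj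
        ((Scheme.Modules.pullback J.subschemeι).obj (CohB1.tensorPow (ClSub.idealMod J) m))) i) :=
      (Groth.Agent.CurvesC.CurveNum.hhPush J.subschemeι _ i).symm.toEquiv.subsingleton
    have hM : PicF.IsInvertible (CohB1.tensorPow (ClSub.idealMod J) m) :=
      Groth.Agent.Lefx.H80.NhdPic.isInvertible_of_iso e.symm (Groth.Agent.Fdesc.LocGen.isInvertible_pullback f
        (Groth.Agent.Ega3B.ProjFrame.isInvertible_twistProjSpace N k _))
    exact Groth.Agent.Flat2F.HHSeq.subsingleton_HH_of_iso (Groth.Agent.VarietyB.ProjForm.projIsoUnit J.subschemeι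
      (Groth.Agent.VarietyB.TensCoh.HasBases.of_isFinLocFree
        (Groth.Agent.FormalA.ThickSurj.isFinLocFree_of_isInvertible hM))).symm i h3
  · exact ((Groth.Agent.Ega4dA.LocalRingCrit.isParafactorialLocalRing_iff _).1
      (Groth.Agent.S3353.result _ (hci x hx).1 (hci x hx).2)).2

/-- Transport along an isomorphism. -/
theorem gen_iso {Z Z' : Scheme.{u}} (e : Z ≅ Z') (f : Z' ⟶ CohB1.ProjSpace N k)
    (hgen : ∀ L : Z'.Modules, PicF.IsInvertible L → ∃ n : ℤ,
      Nonempty (L ≅ (Scheme.Modules.pullback f).obj (Twist.twistProjSpace N k n)))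
    (L : Z.Modules) (hL : PicF.IsInvertible L) : ∃ n : ℤ,
      Nonempty (L ≅ (Scheme.Modules.pullback (e.hom ≫ f)).obj (Twist.twistProjSpace N k n)) := by
  obtain ⟨n, ⟨e'⟩⟩ := hgen ((Scheme.Modules.pullback e.inv).obj L)
    (Groth.Agent.Fdesc.LocGen.isInvertible_pullback _ hL)
  refine ⟨n, ⟨?_ ≪≫ (Scheme.Modules.pullback e.hom).mapIso e' ≪≫ (Scheme.Modules.pullbackComp e.hom f).app _⟩⟩
  exact ((Scheme.Modules.pullbackId Z).app L).symm ≪≫
    (Scheme.Modules.pullbackCongr e.hom_inv_id.symm).app L ≪≫ ((Scheme.Modules.pullbackComp e.hom e.inv).app L).symm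

/-- Every invertible module on a complete intersection of dimension `≥ 3` is a twist. -/
theorem gen_ci : ∀ (r : ℕ) (_ : r + 3 ≤ N) (a : Fin r → ℕ) (_ : ∀ j, 1 ≤ a j) (G : ∀ j : Fin r, Form N k (a j)),
    CIReg.IsReg G → ∀ L : (Y G).Modules, PicF.IsInvertible L → ∃ n : ℤ,
      Nonempty (L ≅ (Scheme.Modules.pullback (yι G)).obj (Twist.twistProjSpace N k n))
  | 0, _, a, _, G, _ => by
    have h1 : ciIdeal G = ⊥ := by
      rw [ciIdeal, iSup_of_empty]
    have h2 : IsIso (ciIdeal G).subschemeι := by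
      rw [h1]
      infer_instance
    have h3 := gen_iso (k := k) (asIso (ciIdeal G).subschemeι) (𝟙 (CohB1.ProjSpace N k)) (fun L hL => by
      obtain ⟨n, ⟨e⟩⟩ := Groth.Agent.S1697.result k N L hL
      exact ⟨n, ⟨e ≪≫ ((Scheme.Modules.pullbackId _).app _).symm⟩⟩)
    intro L hL
    obtain ⟨n, ⟨e⟩⟩ := h3 L hL
    exact ⟨n, ⟨e ≪≫ (Scheme.Modules.pullbackCongr (by simp)).app _⟩⟩
  | r + 1, hr, a, ha, G, hG => by
    have ih := gen_ci r (by omega) _ (fun j => ha j.castSucc) (fun j : Fin r => G j.castSucc) hG.castSucc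
    have hJ := CIStep.nonempty_iso (fun j : Fin r => G j.castSucc) (G (Fin.last r)) hG.fn_mem_nonZeroDivisors
    have hgood := CIGood.Good.step (d := N - (r + 1)) (by
        have : N - (r + 1) + 1 = N - r := by omega
        rw [this]
        exact CIGood.good_ci r (by omega) _ (fun j : Fin r => G j.castSucc) hG.castSucc)
      ((hypIdeal (G (Fin.last r))).comap (yι (fun j : Fin r => G j.castSucc))) hJ
    let : (Y (fun j : Fin r => G j.castSucc)).Over (Spec (CommRingCat.of k)) :=
      ⟨yStr (fun j : Fin r => G j.castSucc)⟩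
    have hprop : IsProper (Y (fun j : Fin r => G j.castSucc) ↘ Spec (CommRingCat.of k)) :=
      inferInstanceAs (IsProper (yStr (fun j : Fin r => G j.castSucc)))
    have h1 := gen_step (yι (fun j : Fin r => G j.castSucc))
      ((hypIdeal (G (Fin.last r))).comap (yι (fun j : Fin r => G j.castSucc))) (ha (Fin.last r)) hJ
      (d := N - (r + 1)) (by omega) hgood (fun x hx => by
        have h2 := stalk_ci (fun j : Fin r => G j.castSucc) hG.castSucc (by omega) x
        refine ⟨h2.1, ?_⟩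
        rw [h2.2 hx]
        exact_mod_cast (by omega : 4 ≤ N - r)) ih
    obtain ⟨e, he⟩ := CIReg.exists_ciIso G
    intro L hL
    obtain ⟨n, ⟨e'⟩⟩ := gen_iso e _ h1 L hL
    exact ⟨n, ⟨e' ≪≫ (Scheme.Modules.pullbackCongr he).app _⟩⟩

end Groth.Agent.LefX.K947.CIPic
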