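import Mathlib.LinearAlgebra.Matrix.Charpoly.LinearMap
import Mathlib.RingTheory.Filtration
import Mathlib.RingTheory.IntegralClosure.IntegrallyClosed
import Mathlib.RingTheory.Localization.FractionRing
import Mathlib.RingTheory.Localization.Submodule

/-!
# Commutative algebra for the extension over a closed set of completions along `V(J)`
-/

set_option autoImplicit false

open Polynomial

namespace Groth.Agent.LefX.K947.ExtAlg

section Nak

variable {A M : Type*} [CommRing A] [AddCommGroup M] [Module A M]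

/-- a common denominator -/
theorem exists_common [Module.Finite A M] (p : Ideal A) [p.IsPrime] (N : Submodule A M)
    (h : ∀ x : M, ∃ b ∉ p, b • x ∈ N) : ∃ b ∉ p, ∀ x : M, b • x ∈ N := by
  classical
  obtain ⟨s, hs⟩ := Module.Finite.fg_top (R := A) (M := M)
  choose b hb hbN using h
  refine ⟨∏ x ∈ s, b x, ?_, ?_⟩
  · exact Submonoid.prod_mem p.primeCompl fun x _ => hb x
  · intro x
    have hx : x ∈ Submodule.span A (s : Set M) := by rw [hs]; trivial
    induction hx using Submodule.span_induction with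
    | mem y hy =>
      rw [← Finset.prod_erase_mul s b hy, mul_smul]
      exact N.smul_mem _ (hbN y)
    | zero => rw [smul_zero]; exact N.zero_mem
    | add y z _ _ hy hz => rw [smul_add]; exact N.add_mem hy hz
    | smul c y _ hy => rw [smul_comm]; exact N.smul_mem _ hy

/-- Nakayama's lemma at a prime. -/
theorem exists_smul_mem [Module.Finite A M] (J p : Ideal A) [p.IsPrime] (hJ : J ≤ p)
    (N : Submodule A M) (h : ∀ x : M, ∃ b ∉ p, b • x ∈ N ⊔ J • (⊤ : Submodule A M)) (x : M) :
    ∃ b ∉ p, b • x ∈ N := by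
  classical
  obtain ⟨b, hb, hbN⟩ := exists_common p _ h
  let Q := M ⧸ N
  have h1 : LinearMap.range (LinearMap.lsmul A Q b) ≤ J • (⊤ : Submodule A Q) := by
    rintro _ ⟨q, rfl⟩
    obtain ⟨y, rfl⟩ := N.mkQ_surjective q
    obtain ⟨n, hn, z, hz, hy⟩ := Submodule.mem_sup.1 (hbN y)
    have h2 : (LinearMap.lsmul A Q b) (N.mkQ y) = N.mkQ z := by
      have h3 : N.mkQ n = 0 := (Submodule.Quotient.mk_eq_zero N).2 hn
      change b • N.mkQ y = _
      rw [← map_smul, ← hy, map_add, h3, zero_add]
    rw [h2]
    have h3 : (J • (⊤ : Submodule A M)).map N.mkQ ≤ J • (⊤ : Submodule A Q) := by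
      rw [Submodule.map_smul'']
      exact Submodule.smul_mono le_rfl le_top
    exact h3 (Submodule.mem_map_of_mem hz)
  obtain ⟨P, hP, -, hPc, hP0⟩ :=
    LinearMap.exists_monic_and_natDegree_eq_and_coeff_mem_pow_and_aeval_eq_zero A
      (LinearMap.lsmul A Q b) J h1
  have h4 : ∀ R : A[X], aeval (LinearMap.lsmul A Q b : Module.End A Q) R =
      LinearMap.lsmul A Q (R.eval b) := by
    intro R
    have : (LinearMap.lsmul A Q b : Module.End A Q) = algebraMap A (Module.End A Q) b := rfl
    rw [this, aeval_algebraMap_apply, Polynomial.coe_aeval_eq_eval]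
    rfl
  refine ⟨P.eval b, ?_, ?_⟩
  · intro hmem
    rw [Polynomial.eval_eq_sum_range, Finset.sum_range_succ, hP.coeff_natDegree, one_mul] at hmem
    have h5 : ∑ i ∈ Finset.range P.natDegree, P.coeff i * b ^ i ∈ p := by
      refine Ideal.sum_mem _ fun i hi => Ideal.mul_mem_right _ _ (hJ ?_)
      exact Ideal.pow_le_self (by have := Finset.mem_range.1 hi; omega) (hPc i)
    have h6 : b ^ P.natDegree ∈ p := by
      have := p.sub_mem hmem h5
      rwa [add_sub_cancel_left] at this
    exact hb (Ideal.IsPrime.mem_of_pow_mem ‹_› _ h6)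
  · rw [← Submodule.Quotient.mk_eq_zero N, Submodule.Quotient.mk_smul]
    have h7 := h4 P
    rw [hP0] at h7
    exact (congrArg (fun t : Module.End A Q => t (N.mkQ x)) h7).symm

end Nak

section Normal

variable {A M : Type*} [CommRing A] [IsDomain A] [IsIntegrallyClosed A] [AddCommGroup M] [Module A M]

/-- A finite torsion-free module of rank one over a normal domain `A`, with an element whose images under the
endomorphisms are all elements, is `A`. -/
theorem exists_eq_smul [Module.Finite A M] (e : M)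
    (htors : ∀ (b : A) (x : M), b ≠ 0 → b • x = 0 → x = 0) (he : e ≠ 0)
    (hrank : ∀ x : M, ∃ b : A, b ≠ 0 ∧ ∃ c : A, b • x = c • e)
    (hend : ∀ x : M, ∃ φ : M →ₗ[A] M, φ e = x) (x : M) : ∃ c : A, x = c • e := by
  obtain ⟨b, hb, c, hc⟩ := hrank x
  obtain ⟨φ, hφ⟩ := hend x
  obtain ⟨P, hP, hP0⟩ := LinearMap.exists_monic_and_aeval_eq_zero A (φ : Module.End A M)
  have he' : ∀ t : A, t • e = 0 → t = 0 := by
    intro t ht
    by_contra h
    exact he (htors t e h ht)
  -- powers of `φ`
  have h1 : ∀ i : ℕ, b ^ i • ((φ : Module.End A M) ^ i) e = c ^ i • e := by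
    intro i
    induction i with
    | zero => simp
    | succ i ih =>
      rw [pow_succ' (φ : Module.End A M), Module.End.mul_apply, pow_succ', mul_smul, ← map_smul, ih,
        map_smul, smul_comm, ← map_smul]
      rw [map_smul, hφ, hc, smul_smul, pow_succ]
  have h2 : ∀ i, i ≤ P.natDegree → b ^ P.natDegree • ((φ : Module.End A M) ^ i) e =
      (b ^ (P.natDegree - i) * c ^ i) • e := by
    intro i hi
    have : b ^ P.natDegree = b ^ (P.natDegree - i) * b ^ i := by
      rw [← pow_add]; congr 1; omega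
    rw [this, mul_smul, h1, smul_smul]
  have h3 : ∑ i ∈ Finset.range (P.natDegree + 1), P.coeff i * (b ^ (P.natDegree - i) * c ^ i) = 0 := by
    apply he'
    have h4 := congrArg (fun t : Module.End A M => b ^ P.natDegree • t e) hP0
    simp only [LinearMap.zero_apply, smul_zero] at h4
    rw [← h4, Polynomial.aeval_eq_sum_range, Finset.sum_smul, LinearMap.sum_apply, Finset.smul_sum]
    refine Finset.sum_congr rfl fun i hi => ?_
    rw [LinearMap.smul_apply, smul_comm, h2 i (by have := Finset.mem_range.1 hi; omega), smul_smul]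
  let K := FractionRing A
  have hbK : algebraMap A K b ≠ 0 := fun h => hb ((IsFractionRing.injective A K) (by rw [h, map_zero]))
  have h5 : IsIntegral A (algebraMap A K c / algebraMap A K b) := by
    refine ⟨P, hP, ?_⟩
    have h6 : algebraMap A K b ^ P.natDegree *
        eval₂ (algebraMap A K) (algebraMap A K c / algebraMap A K b) P = 0 := by
      rw [Polynomial.eval₂_eq_sum_range, Finset.mul_sum, ← map_zero (algebraMap A K), ← h3, map_sum]
      refine Finset.sum_congr rfl fun i hi => ?_
      have hi' : i ≤ P.natDegree := by have := Finset.mem_range.1 hi; omega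
      have h7 : algebraMap A K b ^ P.natDegree =
          algebraMap A K b ^ (P.natDegree - i) * algebraMap A K b ^ i := by
        rw [← pow_add]; congr 1; omega
      rw [map_mul, map_mul, map_pow, map_pow, h7, div_pow]
      have h8 : algebraMap A K b ^ i ≠ 0 := pow_ne_zero _ hbK
      calc algebraMap A K b ^ (P.natDegree - i) * algebraMap A K b ^ i *
            (algebraMap A K (P.coeff i) * (algebraMap A K c ^ i / algebraMap A K b ^ i))
          = algebraMap A K (P.coeff i) * (algebraMap A K b ^ (P.natDegree - i) *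
            (algebraMap A K b ^ i * (algebraMap A K c ^ i / algebraMap A K b ^ i))) := by ring
        _ = _ := by rw [mul_div_cancel₀ _ h8]
    exact (mul_eq_zero.1 h6).resolve_left (pow_ne_zero _ hbK)
  obtain ⟨d, hd⟩ := (IsIntegrallyClosed.isIntegral_iff (R := A) (K := K)).1 h5
  have h9 : c = b * d := by
    apply IsFractionRing.injective A K
    rw [map_mul, hd, mul_div_cancel₀ _ hbK]
  refine ⟨d, ?_⟩
  rw [← sub_eq_zero]
  refine htors b _ hb ?_
  rw [smul_sub, hc, h9, mul_smul, sub_self]

end Normal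

section AR

variable {A : Type*} [CommRing A] [IsDomain A] [IsNoetherianRing A]

/-- `(J^(n+k) : b) ⊆ J^n`. -/
theorem exists_artinRees (J : Ideal A) (b : A) (hb : b ≠ 0) :
    ∃ k : ℕ, ∀ (n : ℕ) (a : A), b * a ∈ J ^ (n + k) → a ∈ J ^ n := by
  obtain ⟨k, hk⟩ := Ideal.exists_pow_inf_eq_pow_smul J (M := A) (Ideal.span {b})
  refine ⟨k, fun n a ha => ?_⟩
  have h1 := hk (n + k) (by omega)
  have h2 : b * a ∈ (J ^ (n + k) • (⊤ : Submodule A A) ⊓ Ideal.span {b} : Submodule A A) := by
    refine ⟨?_, Ideal.mem_span_singleton'.2 ⟨a, mul_comm _ _⟩⟩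
    rw [← mul_one (b * a)]
    exact Submodule.smul_mem_smul ha trivial
  rw [h1, Nat.add_sub_cancel] at h2
  have h3 : b * a ∈ (J ^ n • (Ideal.span {b} : Submodule A A)) :=
    (Submodule.smul_mono le_rfl inf_le_right) h2
  obtain ⟨c, hc, hcb⟩ := Ideal.mem_mul_span_singleton.1 (show b * a ∈ J ^ n * Ideal.span {b} from h3)
  have h4 : a = c := mul_left_cancel₀ hb (by rw [← hcb, mul_comm])
  rw [h4]
  exact hc

/-- Krull's intersection theorem at a prime. -/
theorem eq_zero_of_forall_pow (J p : Ideal A) [p.IsPrime] (hJ : J ≤ p) (a : A)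
    (h : ∀ n : ℕ, ∃ s ∉ p, s * a ∈ J ^ n) : a = 0 := by
  let Ap := Localization.AtPrime p
  have hAp : IsNoetherianRing Ap := IsLocalization.isNoetherianRing p.primeCompl Ap inferInstance
  have h1 : algebraMap A Ap a ∈ ⨅ n : ℕ, (IsLocalRing.maximalIdeal Ap) ^ n := by
    rw [Ideal.mem_iInf]
    intro n
    obtain ⟨s, hs, hsa⟩ := h n
    have h2 : algebraMap A Ap (s * a) ∈ (IsLocalRing.maximalIdeal Ap) ^ n := by
      have h3 : J.map (algebraMap A Ap) ≤ IsLocalRing.maximalIdeal Ap := by
        rw [← Localization.AtPrime.map_eq_maximalIdeal]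
        exact Ideal.map_mono hJ
      refine Ideal.pow_right_mono h3 n ?_
      rw [← Ideal.map_pow]
      exact Ideal.mem_map_of_mem _ hsa
    rw [map_mul] at h2
    have h4 : IsUnit (algebraMap A Ap s) := IsLocalization.map_units Ap (⟨s, hs⟩ : p.primeCompl)
    exact (Ideal.unit_mul_mem_iff_mem _ h4).1 h2
  rw [Ideal.iInf_pow_eq_bot_of_isLocalRing _ (Ideal.IsPrime.ne_top inferInstance), Ideal.mem_bot] at h1
  exact (IsLocalization.injective Ap p.primeCompl_le_nonZeroDivisors) (by rw [h1, map_zero])

end AR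

end Groth.Agent.LefX.K947.ExtAlg
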