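import Groth.Agent.LefX.K947.ExtChi
import Groth.Agent.Sga2lef.H100.GrAlgebraize

/-!
# Algebraization from a finite module of formal sections
-/

set_option autoImplicit false
universe u

open CategoryTheory CategoryTheory.Limits AlgebraicGeometry Opposite TopologicalSpace

namespace Groth.Agent.LefX.K947.ExtAlgz

open Groth.Agent.FormalB.HMod Groth.Agent.FormalB.TildeOpen Groth.Agent.FormalB.ModPow
  Groth.Agent.FormalB.PuncSec Groth.Agent.FormalB.PrincTower Groth.Agent.FormalB.PuncAlg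
  Groth.Agent.Sga2lef.H100.GrAlgebraize

variable (A : Type u) [CommRing A] (V : (Spec (CommRingCat.of A)).Opens)

theorem isIso_tV_liftQ' {L N : ModuleCat.{u} A} (φ : L ⟶ N) (𝔞 : Ideal A)
    (hV : ∀ x ∈ V, ¬ 𝔞 ≤ x.asIdeal)
    (hcoker : ∀ y, ∀ b ∈ 𝔞, ∃ (e : ℕ) (x : L), φ x = b ^ e • y) :
    IsIso ((tV V).map (ModuleCat.ofHom ((LinearMap.ker φ.hom).liftQ φ.hom le_rfl) :
      ModuleCat.of A (L ⧸ LinearMap.ker φ.hom) ⟶ N)) := by
  refine isIso_tV_map V _ 𝔞 hV ?_ ?_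
  · intro x hx k _
    refine ⟨0, ?_⟩
    have : x = 0 := by
      obtain ⟨x, rfl⟩ := (LinearMap.ker φ.hom).mkQ_surjective x
      have hx' : φ.hom x = 0 := hx
      rw [Submodule.mkQ_apply, Submodule.Quotient.mk_eq_zero]
      exact hx'
    rw [this, smul_zero]
  · intro y k hk
    obtain ⟨e, x, hx⟩ := hcoker y k hk
    exact ⟨e, (LinearMap.ker φ.hom).mkQ x, hx⟩

theorem exists_factor' {L N : ModuleCat.{u} A} (φ : L ⟶ N) (𝔞 : Ideal A)
    (hV : ∀ x ∈ V, ¬ 𝔞 ≤ x.asIdeal)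
    (hcoker : ∀ y, ∀ b ∈ 𝔞, ∃ (e : ℕ) (x : L), φ x = b ^ e • y) {Z : (V : Scheme.{u}).Modules}
    (ψ : (tV V).obj L ⟶ Z)
    (hψ : ∀ x : L, φ x = 0 → ((adjV V).homEquiv _ _ ψ) x = 0) :
    ∃ χ : (tV V).obj N ⟶ Z, (tV V).map φ ≫ χ = ψ := by
  have h2 := isIso_tV_liftQ' A V φ 𝔞 hV hcoker
  let K : Submodule A L := LinearMap.ker φ.hom
  let q : L ⟶ ModuleCat.of A (L ⧸ K) := ModuleCat.ofHom K.mkQ
  let ι : ModuleCat.of A (L ⧸ K) ⟶ N := ModuleCat.ofHom (K.liftQ φ.hom le_rfl)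
  have hφ : φ = q ≫ ι := by
    ext x
    rfl
  obtain ⟨ψ', hψ'⟩ : ∃ ψ' : ModuleCat.of A (L ⧸ K) ⟶ (sV V).obj Z,
      q ≫ ψ' = (adjV V).homEquiv _ _ ψ := exists_desc A K _ hψ
  have h2' : IsIso ((tV V).map ι) := h2
  refine ⟨inv ((tV V).map ι) ≫ ((adjV V).homEquiv _ _).symm ψ', ?_⟩
  rw [hφ, Functor.map_comp, Category.assoc, IsIso.hom_inv_id_assoc,
    ← Adjunction.homEquiv_naturality_left_symm, hψ', Equiv.symm_apply_apply]

theorem epi_tV_map' {L N : ModuleCat.{u} A} (φ : L ⟶ N) (𝔞 : Ideal A)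
    (hV : ∀ x ∈ V, ¬ 𝔞 ≤ x.asIdeal)
    (hcoker : ∀ y, ∀ b ∈ 𝔞, ∃ (e : ℕ) (x : L), φ x = b ^ e • y) : Epi ((tV V).map φ) := by
  have h2 := isIso_tV_liftQ' A V φ 𝔞 hV hcoker
  have hl : (tV V).IsLeftAdjoint := (adjV V).isLeftAdjoint
  let K : Submodule A L := LinearMap.ker φ.hom
  have hepi : Epi (ModuleCat.ofHom K.mkQ) := by
    rw [ModuleCat.epi_iff_surjective]
    exact K.mkQ_surjective
  have hφ : φ = ModuleCat.ofHom K.mkQ ≫ ModuleCat.ofHom (K.liftQ φ.hom le_rfl) := by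
    ext x
    rfl
  have h3 : Epi ((tV V).map (ModuleCat.ofHom K.mkQ)) := inferInstance
  rw [hφ, Functor.map_comp]
  exact epi_comp _ _

variable {A}

/-- Algebraization from compatible maps `φ n : L → Γ(V, G_n)` from a finite module `L`. -/
theorem algebraize_of_maps [IsNoetherianRing A] (J : Ideal A) (𝔞 : Ideal A)
    (hV : ∀ x ∈ V, ¬ 𝔞 ≤ x.asIdeal) (hVc : IsCompact (V : Set (Spec (CommRingCat.of A))))
    (G : ℕᵒᵖ ⥤ (V : Scheme.{u}).Modules) (hG : IsFormal J G)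
    (hqc : ∀ n : ℕ, Coh.IsQCoh (G.obj (op n)))
    (L : ModuleCat.{u} A) (hL : Module.Finite A L)
    (φ : ∀ n : ℕ, L ⟶ (sV V).obj (G.obj (op n)))
    (hφs : ∀ n, φ (n + 1) ≫ (sV V).map (tr G n) = φ n)
    (hker : ∀ n : ℕ, ∃ m : ℕ, n ≤ m ∧ ∀ x : L, φ m x = 0 → x ∈ (J ^ (n + 1) • (⊤ : Submodule A L)))
    (hcoker : ∀ (n : ℕ) (y), ∀ b ∈ 𝔞, ∃ (e : ℕ) (x : L), φ n x = b ^ e • y) :
    ∃ F : (V : Scheme.{u}).Modules, Coh.IsCoh F ∧ Nonempty (Formal.completion J F ≅ G) := by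
  let p : ∀ n, (tV V).obj L ⟶ G.obj (op n) := fun n => ((adjV V).homEquiv _ _).symm (φ n)
  have hps : ∀ n, p (n + 1) ≫ G.map (homOfLE (Nat.le_succ n)).op = p n := by
    intro n
    change ((adjV V).homEquiv _ _).symm (φ (n + 1)) ≫ tr G n = ((adjV V).homEquiv _ _).symm (φ n)
    rw [← Adjunction.homEquiv_naturality_right_symm, hφs]
  have hp : ∀ n, p n = (tV V).map (φ n) ≫ (adjV V).counit.app (G.obj (op n)) := fun n =>
    Adjunction.homEquiv_counit _ _ _ _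
  have hiso : ∀ n, IsIso ((adjV V).counit.app (G.obj (op n))) := fun n =>
    isIso_counit V hVc (G.obj (op n)) (hqc n)
  have hepi : ∀ n, Epi (p n) := by
    intro n
    have h1 := epi_tV_map' A V (φ n) 𝔞 hV (hcoker n)
    have h2 := hiso n
    rw [hp]
    exact epi_comp _ _
  refine ⟨(tV V).obj L, isCoh_tV A V L hL, ⟨completionIso J p ?_ hps⟩⟩
  intro n
  refine ⟨hepi n, fun a ha => ?_, fun {Z} ψ hψ => ?_⟩
  · rw [smulMod_naturality, hG.killed n a ha, comp_zero]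
  · obtain ⟨m, hnm, hm⟩ := hker n
    -- the adjoint of `ψ` kills `J^(n+1) L`
    let ψ' : L ⟶ (sV V).obj Z := (adjV V).homEquiv _ _ ψ
    have h1 : ∀ a ∈ J ^ (n + 1), ∀ x : L, ψ' (a • x) = 0 := by
      intro a ha x
      have h2 : ModuleCat.ofHom (LinearMap.lsmul A L a) ≫ ψ' = 0 := by
        change ModuleCat.ofHom (LinearMap.lsmul A L a) ≫ (adjV V).homEquiv _ _ ψ = 0
        rw [← Adjunction.homEquiv_naturality_left]
        have h3 : (tV V).map (ModuleCat.ofHom (LinearMap.lsmul A L a)) ≫ ψ = 0 := by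
          have h4 := hψ a ha
          rwa [← tV_map_smul] at h4
        rw [h3, Adjunction.homEquiv_unit, sV_map_zero, comp_zero]
      exact congrArg (fun t => t.hom x) h2
    have h5 : ∀ x ∈ (J ^ (n + 1) • (⊤ : Submodule A L)), ψ' x = 0 := by
      intro x hx
      refine Submodule.smul_induction_on hx (fun a ha x _ => h1 a ha x) ?_
      intro x y hx hy
      change ψ'.hom (x + y) = 0
      rw [map_add]
      refine Eq.trans (congrArg₂ (· + ·) hx hy) (add_zero _)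
    obtain ⟨χ0, hχ0⟩ := exists_factor' A V (φ m) 𝔞 hV (hcoker m) ψ (by
      intro x hx
      exact h5 x (hm x hx))
    have h6 := hiso m
    let χ : G.obj (op m) ⟶ Z := inv ((adjV V).counit.app (G.obj (op m))) ≫ χ0
    have hχ : p m ≫ χ = ψ := by
      rw [hp, Category.assoc, IsIso.hom_inv_id_assoc, hχ0]
    obtain ⟨χ', hχ'⟩ := (hG.isModPow hnm).desc χ (fun a ha => by
      have := hepi m
      rw [← cancel_epi (p m), ← smulMod_naturality_assoc, hχ, hψ a ha, comp_zero])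
    refine ⟨χ', ?_⟩
    rw [← compat_of_succ p hps hnm, Category.assoc, hχ', hχ]

end Groth.Agent.LefX.K947.ExtAlgz
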