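import Groth.Agent.LefX.K947.ExtLocal

/-!
# Formal sections over `V` are formal sections over `U`
-/

set_option autoImplicit false
universe u

open CategoryTheory CategoryTheory.Limits AlgebraicGeometry Opposite TopologicalSpace

namespace Groth.Agent.LefX.K947.ExtChi

open Groth.Agent.FormalB.ModPow Groth.Agent.FormalB.PuncTheta Groth.Agent.FormalB.PuncTheta2
  Groth.Agent.FormalB.PrincTower
  Groth.Agent.LefX.K947.ExtSec Groth.Agent.LefX.K947.ExtTower Groth.Agent.LefX.K947.ExtOne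
  Groth.Agent.LefX.K947.ExtLocal

section Pairs

variable {A : Type u} [CommRing A]

/-- pairs with the same image -/
def eqPairs {X P Q : Type u} [AddCommGroup X] [Module A X] [AddCommGroup P] [Module A P]
    [AddCommGroup Q] [Module A Q] (f : X →ₗ[A] Q) (g : P →ₗ[A] Q) : Submodule A (X × P) :=
  LinearMap.ker (f.comp (LinearMap.fst A X P) - g.comp (LinearMap.snd A X P))

variable {X P Q : Type u} [AddCommGroup X] [Module A X] [AddCommGroup P] [Module A P]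
    [AddCommGroup Q] [Module A Q] (f : X →ₗ[A] Q) (g : P →ₗ[A] Q)

theorem mem_eqPairs (x : X) (p : P) : (x, p) ∈ eqPairs f g ↔ f x = g p := by
  rw [eqPairs, LinearMap.mem_ker]
  exact sub_eq_zero

/-- the first component -/
def p1 : eqPairs f g →ₗ[A] X := (LinearMap.fst A X P).comp (eqPairs f g).subtype

/-- the second component -/
def p2 : eqPairs f g →ₗ[A] P := (LinearMap.snd A X P).comp (eqPairs f g).subtype

theorem eq_pairs (w : eqPairs f g) : f (p1 f g w) = g (p2 f g w) := (mem_eqPairs f g _ _).1 w.2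

theorem exists_pair (x : X) (p : P) (h : f x = g p) : ∃ w : eqPairs f g, p1 f g w = x ∧ p2 f g w = p :=
  ⟨⟨(x, p), (mem_eqPairs f g x p).2 h⟩, rfl, rfl⟩

/-- Extension of sections: the abstract form. -/
theorem exists_chi_abs (U : (Spec (CommRingCat.of A)).Opens) {F : (U : Scheme.{u}).Modules}
    (t : P →ₗ[A] (Gam U).obj F)
    (h1 : ∀ x : X, ∀ z ∈ U, ∃ a : A, z ∈ D a ∧ ∃ p : P, a • f x = g p)
    (h2 : ∀ p : P, g p = 0 → t p = 0) :
    IsTorsOn U (X ⧸ LinearMap.range (p1 f g)) ∧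
    ∃ χ : X →ₗ[A] (Gam U).obj F, ∀ (x : X) (p : P), f x = g p → χ x = t p := by
  have hT : IsTorsOn U (X ⧸ LinearMap.range (p1 f g)) := by
    refine isTorsOn_of_isTors fun y => ?_
    obtain ⟨x, rfl⟩ := Submodule.Quotient.mk_surjective _ y
    refine isTors_mk_of_forall_mem _ _ fun z hz => ?_
    obtain ⟨a, hza, p, hp⟩ := h1 x z hz
    rw [← map_smul] at hp
    obtain ⟨w, hw, -⟩ := exists_pair f g (a • x) p hp
    exact ⟨a, hza, ⟨w, hw⟩⟩
  obtain ⟨χ, hχ⟩ := exists_extend U (p1 f g) hT (t.comp (p2 f g)) (by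
    intro w hw
    refine h2 _ ?_
    rw [← eq_pairs, hw, map_zero])
  refine ⟨hT, χ, fun x p hp => ?_⟩
  obtain ⟨w, hw, hw'⟩ := exists_pair f g x p hp
  rw [← hw, hχ, LinearMap.comp_apply, hw']

/-- Uniqueness: the abstract form. -/
theorem eq_abs (U : (Spec (CommRingCat.of A)).Opens) {F : (U : Scheme.{u}).Modules}
    (hT : IsTorsOn U (X ⧸ LinearMap.range (p1 f g))) (χ χ' : X →ₗ[A] (Gam U).obj F)
    (h : ∀ (x : X) (p : P), f x = g p → χ x = χ' x) (x : X) : χ x = χ' x := by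
  have h1 := linearMap_ext U (p1 f g) hT χ χ' (fun w => h _ _ (eq_pairs f g w))
  rw [h1]

end Pairs

variable {A : Type u} [CommRing A] {J : Ideal A} {U V : (Spec (CommRingCat.of A)).Opens}
  {G : ℕᵒᵖ ⥤ (U : Scheme.{u}).Modules}

/-- The sections over `V`. -/
noncomputable abbrev QV (V : (Spec (CommRingCat.of A)).Opens) (G : ℕᵒᵖ ⥤ (U : Scheme.{u}).Modules) :
    ℕᵒᵖ ⥤ ModuleCat.{u} A := PP G ⋙ Theta V ⋙ Gam V

/-- The sections over `U`. -/
noncomputable abbrev PN (G : ℕᵒᵖ ⥤ (U : Scheme.{u}).Modules) (n : ℕ) : ModuleCat.{u} A :=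
  (Gam U).obj (G.obj (op n))

/-- The sections over `V`. -/
noncomputable abbrev QN (V : (Spec (CommRingCat.of A)).Opens) (G : ℕᵒᵖ ⥤ (U : Scheme.{u}).Modules)
    (n : ℕ) : ModuleCat.{u} A := (Gam V).obj ((Theta V).obj (ModuleCat.of A (PN G n : Type u)))

/-- The components of a formal section. -/
noncomputable def coQ (n : ℕ) : limS (QV V G) →ₗ[A] QN V G n where
  toFun x := x.1 n
  map_add' _ _ := rfl
  map_smul' _ _ := rfl

theorem coQ_tr (x : limS (QV V G)) {n m : ℕ} (h : n ≤ m) :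
    Hmap V (trP G h) (coQ m x) = coQ n x := limS_map x h

/-- the facts on the tower, in terms of the components -/
theorem ker_coQ {n₀ : ℕ} (h : ∀ (n : ℕ) (x : limS (QV V G)), x.1 (n + n₀) = 0 →
    x ∈ (J ^ (n + 1) • (⊤ : Submodule A (limS (QV V G))))) (n : ℕ) (x : limS (QV V G))
    (hx : coQ (n + n₀) x = 0) : x ∈ (J ^ (n + 1) • (⊤ : Submodule A (limS (QV V G)))) := h n x hx

theorem lift_coQ {n₁ : ℕ} (h : ∀ (n : ℕ) (q : (QV V G).obj (op (n + n₁))), ∃ x : limS (QV V G),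
    x.1 n = ((QV V G).map (homOfLE (Nat.le_add_right n n₁)).op).hom q) (n : ℕ)
    (q : QN V G (n + n₁)) : ∃ x : limS (QV V G), coQ n x = Hmap V (trP G (Nat.le_add_right n n₁)) q :=
  h n q

variable [IsNoetherianRing A] (hVU : V ≤ U) (hU : IsCompact (U : Set (Spec (CommRingCat.of A))))
  (hV : IsCompact (V : Set (Spec (CommRingCat.of A))))
  (hG : IsFormal J G) (hcoh : ∀ n : ℕ, Coh.IsCoh (G.obj (op n)))
  (hfree : ∀ n : ℕ, Formal2.IsFinLocFreeMod J (n + 1) (G.obj (op n)))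

include hVU hU hV hG hcoh hfree

theorem exists_chi {n m n₁ : ℕ} (h : n ≤ m)
    (hs : ∀ c : A, IsTors V (cl J m c) → c ∈ J ^ (n + 1))
    (hl : ∀ σ : SN J V (m + n₁),
      ∃ c : A, Hmap V (fac J (Nat.le_add_right m n₁)) σ = η V _ (cl J m c)) :
    IsTorsOn U (limS (QV V G) ⧸ LinearMap.range (p1 (coQ m) (η V (PN G m)))) ∧
    ∃ χ : limS (QV V G) →ₗ[A] PN G n,
      ∀ (x : limS (QV V G)) (p : PN G m), coQ m x = η V _ p → χ x = trP G h p := by
  refine exists_chi_abs (coQ m) (η V (PN G m)) U (trP G h) (fun x z hz => ?_) (fun p hp => ?_)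
  · obtain ⟨g, hzg, p, hp⟩ := exists_tr_eq hVU hU hV hG hcoh hfree (Nat.le_add_right m n₁) hl
      (coQ (m + n₁) x) z hz
    rw [coQ_tr] at hp
    exact ⟨g, hzg, p, hp⟩
  · exact tr_eq_zero hU hG hcoh hfree h hs p ((η_eq_zero_iff V hV p).1 hp)

omit [IsNoetherianRing A] hU hV hG hcoh hfree in
theorem η_chi {n m : ℕ} (h : n ≤ m)
    (hT : IsTorsOn U (limS (QV V G) ⧸ LinearMap.range (p1 (coQ m) (η V (PN G m)))))
    (χ : limS (QV V G) →ₗ[A] PN G n)
    (hχ : ∀ (x : limS (QV V G)) (p : PN G m), coQ m x = η V _ p → χ x = trP G h p)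
    (x : limS (QV V G)) : η V (PN G n) (χ x) = coQ n x := by
  refine eq_abs (coQ m) (η V (PN G m)) V (isTorsOn_mono hVU hT) ((η V (PN G n)).comp χ) (coQ n)
    (fun x p hp => ?_) x
  rw [LinearMap.comp_apply, hχ x p hp, ← Hmap_η, ← hp, coQ_tr]

omit [IsNoetherianRing A] hVU hU hV hG hcoh hfree in
theorem tr_chi {n n' m m' : ℕ} (h : n ≤ m) (h' : n' ≤ m') (hn : n ≤ n') (hm : m ≤ m')
    (hT : IsTorsOn U (limS (QV V G) ⧸ LinearMap.range (p1 (coQ m') (η V (PN G m')))))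
    (χ : limS (QV V G) →ₗ[A] PN G n)
    (hχ : ∀ (x : limS (QV V G)) (p : PN G m), coQ m x = η V _ p → χ x = trP G h p)
    (χ' : limS (QV V G) →ₗ[A] PN G n')
    (hχ' : ∀ (x : limS (QV V G)) (p : PN G m'), coQ m' x = η V _ p → χ' x = trP G h' p)
    (x : limS (QV V G)) : trP G hn (χ' x) = χ x := by
  refine eq_abs (coQ m') (η V (PN G m')) U hT ((trP G hn).comp χ') χ (fun x p hp => ?_) x
  rw [LinearMap.comp_apply, hχ' x p hp, trP_trP, hχ x (trP G hm p) (by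
    rw [← Hmap_η, ← hp, coQ_tr]), trP_trP]

omit [IsNoetherianRing A] hVU hV hfree in
theorem exists_lift {n m : ℕ} (h : n ≤ m) (y : PN G n) (b : A) (hb : D b ≤ U) :
    ∃ (k : ℕ) (y' : PN G m), trP G h y' = b ^ k • y := by
  have hepi := (hG.isModPow h).epi
  exact Groth.Agent.Sga2lef.H100.GrFree.exists_lift_of_epi U hU
      (hcoh m).1 (hcoh n).1 (G.map (homOfLE h).op) b hb y

/-- **Formal sections over `V` are formal sections over `U`.** -/
theorem main (hO : OneFacts J V) (hT : TowerFacts J (QV V G)) :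
    ∃ χ : ∀ n : ℕ, limS (QV V G) →ₗ[A] PN G n,
      (∀ n x, trP G (Nat.le_succ n) (χ (n + 1) x) = χ n x) ∧
      (∀ n, ∃ m, n ≤ m ∧ ∀ x, χ m x = 0 → x ∈ (J ^ (n + 1) • (⊤ : Submodule A (limS (QV V G))))) ∧
      ∀ (n : ℕ) (y : PN G n) (b : A), D b ≤ U → ∃ (e : ℕ) (x : _),
        χ n x = b ^ e • y := by
  obtain ⟨n₀, hn₀⟩ := hO.sat
  obtain ⟨n₁, hn₁⟩ := hO.lift
  obtain ⟨k₀, hk₀⟩ := hT.ker
  obtain ⟨k₁, hk₁⟩ := hT.lift
  have hk₀' := ker_coQ hk₀
  have hk₁' := lift_coQ hk₁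
  have key := fun n : ℕ => exists_chi (n := n) (m := n + n₀) (n₁ := n₁) hVU hU hV hG hcoh hfree
    (Nat.le_add_right n n₀) (hn₀ n) (hn₁ (n + n₀))
  choose hTn χ hχ using key
  refine ⟨χ, fun n x => ?_, fun n => ?_, fun n y b hb => ?_⟩
  · exact tr_chi (Nat.le_add_right n n₀) (Nat.le_add_right (n + 1) n₀) (Nat.le_succ n) (by omega)
      (hTn (n + 1)) (χ n) (hχ n) (χ (n + 1)) (hχ (n + 1)) x
  · refine ⟨n + k₀, Nat.le_add_right _ _, fun x hx => hk₀' n x ?_⟩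
    rw [← η_chi hVU (Nat.le_add_right (n + k₀) n₀) (hTn (n + k₀)) (χ (n + k₀)) (hχ (n + k₀)) x, hx,
      map_zero]
  · obtain ⟨k, y', hy'⟩ := exists_lift hU hG hcoh (show n ≤ n + n₀ + k₁ by omega) y b hb
    obtain ⟨x, hx⟩ := hk₁' (n + n₀) (η V _ y')
    refine ⟨k, x, ?_⟩
    rw [Hmap_η] at hx
    rw [hχ n x _ hx, trP_trP, hy']

end Groth.Agent.LefX.K947.ExtChi
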