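import Groth.Agent.LefX.K947.ExtLefAlg
import Groth.Agent.Sga2.LefSpec
import Groth.Agent.Sga2.LefQcoh
import Groth.Agent.Sga2lef.H96.ModSysFormal
import Groth.Agent.Ega2.QCohLocal

/-!
# The Lefschetz condition from formal functions

`j : W ⟶ Spec A` an open immersion, `A` a Noetherian domain, `V` an open of `Spec A` on which the formal functions
along `V(J)` are those of `A`, with `V ∩ V(J)` non-empty and contained in `W`.  Then `Γ(W, O)` is the limit of the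
`Γ(W, O/J^(n+1))`.
-/

set_option autoImplicit false
universe u

open CategoryTheory CategoryTheory.Limits AlgebraicGeometry Opposite TopologicalSpace
open Groth.Agent.Ega1.QCohLoc (resO resO_resO resO_rfl basicOpen_resO)

namespace Groth.Agent.LefX.K947.ExtLef

open Groth.Agent Groth.Agent.Sga2 Groth.Agent.Sga2.LefGamma Groth.Agent.Sga2.LefSpec
open Groth.Agent.FormalB.PuncTheta Groth.Agent.LefX.K947.ExtOne

section Ideal

variable {A : Type u} [CommRing A] (J : Ideal A) {W : Scheme.{u}} (j : W ⟶ Spec (CommRingCat.of A))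

/-- The ideal sheaf of `V(J)`. -/
noncomputable abbrev idJ : (Spec (CommRingCat.of A)).IdealSheafData :=
  (Spec.map (CommRingCat.ofHom (Ideal.Quotient.mk J))).ker

/-- `A → Γ(W, V)` -/
noncomputable def resA (V : W.Opens) : A →+* Γ(W, V) := (resO (le_top : V ≤ ⊤)).comp (toΓ j)

theorem ideal_pow (n : ℕ) (V : W.affineOpens) :
    (((idJ J).comap j) ^ n).ideal V = (J ^ n).map (resA j V.1) := by
  rw [Scheme.IdealSheafData.ideal_pow, Pi.pow_apply,
    Groth.Agent.Divis.IdealComap.ideal_comap _ j ⟨⊤, isAffineOpen_top _⟩ V le_top,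
    Groth.Agent.Sga2lef.H96.ModSysFormal.ker_specMk_ideal_top, Ideal.map_map, Ideal.map_pow]
  rfl

/-- Elements of `J^n` vanish on the `n`-th thickening. -/
theorem appTop_eq_zero (n : ℕ) (a : A) (ha : a ∈ J ^ n) :
    (((idJ J).comap j) ^ n).subschemeι.appTop (toΓ j a) = 0 := by
  set 𝓙 := (idJ J).comap j
  refine eq_of_resO_eq (fun V : W.affineOpens => (𝓙 ^ n).subschemeι ⁻¹ᵁ V.1) ?_ _ _ fun V => ?_
  · have h1 := iSup_affineOpens_eq_top W
    have h2 := congr((𝓙 ^ n).subschemeι ⁻¹ᵁ $h1)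
    rw [Scheme.Hom.preimage_iSup] at h2
    exact h2
  · have h3 := app_resO (𝓙 ^ n).subschemeι (le_top : V.1 ≤ ⊤) (toΓ j a)
    refine Eq.trans h3.symm ?_
    rw [map_zero]
    have h4 : resO (le_top : V.1 ≤ ⊤) (toΓ j a) ∈
        RingHom.ker ((𝓙 ^ n).subschemeι.app V.1).hom := by
      rw [Scheme.IdealSheafData.ker_subschemeι_app, ideal_pow]
      exact Ideal.mem_map_of_mem (resA j V.1) ha
    exact h4

variable [IsOpenImmersion j] [CompactSpace W]

/-- The kernel of `A → Γ(W, D(f))`. -/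
theorem exists_pow_mul_eq_zero_resA (f : A)
    (hf : (Spec (CommRingCat.of A)).basicOpen (fn f) ≤ j.opensRange) (a : A)
    (ha : resA j (W.basicOpen (toΓ j f)) a = 0) : ∃ n : ℕ, f ^ n * a = 0 := by
  obtain ⟨m, hm⟩ := exists_pow_mul_eq_zero_of_res_basicOpen_eq_zero_of_isCompact W (U := ⊤)
    CompactSpace.isCompact_univ _ _ ha
  obtain ⟨n, hn⟩ := exists_pow_mul_eq_zero j f hf (f ^ m * a) (by
    rw [map_mul, map_pow]; exact hm)
  exact ⟨n + m, by rw [pow_add, mul_assoc, hn]⟩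

/-- Extension and contraction of ideals along `A → Γ(W, D(f))`. -/
theorem exists_pow_mul_mem (I : Ideal A) (f : A)
    (hf : (Spec (CommRingCat.of A)).basicOpen (fn f) ≤ j.opensRange) (a : A)
    (ha : resA j (W.basicOpen (toΓ j f)) a ∈ I.map (resA j (W.basicOpen (toΓ j f)))) :
    ∃ n : ℕ, f ^ n * a ∈ I := by
  set ψ := resA j (W.basicOpen (toΓ j f)) with hψ
  have h1 : ∀ y ∈ I.map ψ, ∃ (n : ℕ) (c : A), c ∈ I ∧ ψ c = ψ f ^ n * y := by
    intro y hy
    refine Submodule.span_induction (p := fun y _ => ∃ (n : ℕ) (c : A), c ∈ I ∧ ψ c = ψ f ^ n * y)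
      ?_ ?_ ?_ ?_ hy
    · rintro _ ⟨c, hc, rfl⟩
      exact ⟨0, c, hc, by rw [pow_zero, one_mul]⟩
    · exact ⟨0, 0, I.zero_mem, by rw [map_zero, mul_zero]⟩
    · rintro x y _ _ ⟨n, c, hc, h⟩ ⟨m, d, hd, h'⟩
      refine ⟨n + m, f ^ m * c + f ^ n * d, I.add_mem (I.mul_mem_left _ hc) (I.mul_mem_left _ hd), ?_⟩
      rw [map_add, map_mul, map_mul, map_pow, map_pow, h, h']
      ring
    · rintro s x _ ⟨n, c, hc, h⟩
      obtain ⟨m, b, hb⟩ := exists_eq_pow_mul j f hf s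
      have hb' : ψ b = ψ f ^ m * s := hb
      refine ⟨m + n, b * c, I.mul_mem_left _ hc, ?_⟩
      rw [map_mul, h, hb', smul_eq_mul]
      ring
  obtain ⟨n, c, hc, h⟩ := h1 _ ha
  obtain ⟨m, hm⟩ := exists_pow_mul_eq_zero_resA j f hf (c - f ^ n * a) (by
    rw [map_sub, map_mul, map_pow, ← hψ, h, sub_self])
  refine ⟨m + n, ?_⟩
  rw [mul_sub, sub_eq_zero, ← mul_assoc, ← pow_add] at hm
  rw [← hm]
  exact I.mul_mem_left _ hc

/-- Functions of `A` vanishing on a thickening. -/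
theorem exists_mul_mem (n : ℕ) (a : A)
    (ha : (((idJ J).comap j) ^ n).subschemeι.appTop (toΓ j a) = 0) (x : W) :
    ∃ f : A, j x ∈ D f ∧ f * a ∈ J ^ n := by
  obtain ⟨f, hfx, hf⟩ := exists_basicOpen_le j x
  have hV := isAffineOpen_basicOpen j f hf
  set 𝓙 := (idJ J).comap j
  have h4 : resO (le_top : W.basicOpen (toΓ j f) ≤ ⊤) (toΓ j a) ∈
      RingHom.ker ((𝓙 ^ n).subschemeι.app (W.basicOpen (toΓ j f))).hom := by
    refine (app_resO (𝓙 ^ n).subschemeι (le_top : W.basicOpen (toΓ j f) ≤ ⊤) (toΓ j a)).trans ?_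
    have h5 : ((𝓙 ^ n).subschemeι.app ⊤) (toΓ j a) = 0 := ha
    rw [h5, map_zero]
  rw [Scheme.IdealSheafData.ker_subschemeι_app (𝓙 ^ n) ⟨_, hV⟩, ideal_pow] at h4
  obtain ⟨m, hm⟩ := exists_pow_mul_mem j (J ^ n) f hf a h4
  exact ⟨f ^ m, fun h => hfx ((j x).isPrime.mem_of_pow_mem _ h), hm⟩

end Ideal

section Gamma

variable {A : Type u} [CommRing A] [IsNoetherianRing A] {J : Ideal A}
  {V : (Spec (CommRingCat.of A)).Opens}
  (hV : IsCompact (V : Set (Spec (CommRingCat.of A)))) (hO : OneFacts J V)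
  {W : Scheme.{u}} (j : W ⟶ Spec (CommRingCat.of A)) [IsOpenImmersion j]
  (hR : ∀ q : Spec (CommRingCat.of A), J ≤ (show PrimeSpectrum A from q).asIdeal → q ∈ V →
    q ∈ Set.range j)

include hV hO hR in
/-- Surjectivity of `Γ(W, O) → lim Γ(W, O/J^(n+1))`. -/
theorem surj : ∀ (y : ∀ n : ℕ, Γ((((idJ J).comap j) ^ (n + 1)).subscheme, ⊤)),
    (∀ n : ℕ, (Scheme.IdealSheafData.inclusion (Lef.pow_succ_le ((idJ J).comap j) n)).appTop
      (y (n + 1)) = y n) →
    ∃ c : A, ∀ n, y n = (((idJ J).comap j) ^ (n + 1)).subschemeι.appTop (toΓ j c) := by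
  have hNW : NoetherianSpace W := j.isOpenEmbedding.isInducing.noetherianSpace
  have hQW : QuasiSeparatedSpace W := inferInstance
  set 𝓙 := (idJ J).comap j with h𝓙
  let _ : ∀ n, Module A Γ((𝓙 ^ (n + 1)).subscheme, ⊤) := fun n =>
    Module.compHom _ ((𝓙 ^ (n + 1)).subschemeι.appTop.hom.comp (toΓ j))
  let κ : ∀ n, A →ₗ[A] Γ((𝓙 ^ (n + 1)).subscheme, ⊤) := fun n =>
    { toFun := fun a => (𝓙 ^ (n + 1)).subschemeι.appTop (toΓ j a)
      map_add' := fun a b => map_add ((𝓙 ^ (n + 1)).subschemeι.appTop.hom.comp (toΓ j)) a b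
      map_smul' := fun a b => map_mul ((𝓙 ^ (n + 1)).subschemeι.appTop.hom.comp (toΓ j)) a b }
  have hsmul : ∀ n (a : A) (z : Γ((𝓙 ^ (n + 1)).subscheme, ⊤)),
      a • z = (𝓙 ^ (n + 1)).subschemeι.appTop (toΓ j a) * z := fun _ _ _ => rfl
  have hincl : ∀ n (b : Γ(W, ⊤)),
      (Scheme.IdealSheafData.inclusion (Lef.pow_succ_le 𝓙 n)).appTop
        ((𝓙 ^ (n + 1 + 1)).subschemeι.appTop b) = (𝓙 ^ (n + 1)).subschemeι.appTop b := by
    intro n b
    have h1 := Scheme.IdealSheafData.inclusion_subschemeι (Lef.pow_succ_le 𝓙 n)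
    have h2 := congr($(congrArg Scheme.Hom.appTop h1) b)
    rw [← h2]
    rfl
  let τ : ∀ n, Γ((𝓙 ^ (n + 1 + 1)).subscheme, ⊤) →ₗ[A] Γ((𝓙 ^ (n + 1)).subscheme, ⊤) := fun n =>
    { toFun := (Scheme.IdealSheafData.inclusion (Lef.pow_succ_le 𝓙 n)).appTop.hom
      map_add' := map_add _
      map_smul' := fun a z => by
        refine (map_mul (Scheme.IdealSheafData.inclusion (Lef.pow_succ_le 𝓙 n)).appTop.hom
          ((𝓙 ^ (n + 1 + 1)).subschemeι.appTop.hom (toΓ j a)) z).trans ?_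
        exact congr($(hincl n (toΓ j a)) * _) }
  intro y hy
  refine ExtLefAlg.exists_eq hV hO (Set.range j) hR (fun n => Γ((𝓙 ^ (n + 1)).subscheme, ⊤)) κ τ
    (fun n a => hincl n (toΓ j a)) (fun n a ha q hq => ?_) (fun n a ha z => ?_) (fun n z q hq => ?_)
    (fun n z hz => ?_) y hy
  · obtain ⟨x, rfl⟩ := hq
    exact exists_mul_mem J j (n + 1) a ha x
  · rw [hsmul, appTop_eq_zero J j (n + 1) a ha, zero_mul]
  · obtain ⟨x, rfl⟩ := hq
    obtain ⟨f, hfx, hf⟩ := exists_basicOpen_le j x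
    obtain ⟨m, b, hb⟩ := exists_pow_mul_eq (𝓙 ^ (n + 1)).subschemeι (toΓ j f)
      (isAffineOpen_basicOpen j f hf) z
    obtain ⟨g, hg, a, ha⟩ := exists_mul_eq j b x
    refine ⟨g * f ^ m, fun h => ?_, a, ?_⟩
    · rcases (j x).isPrime.mem_or_mem h with h | h
      · exact hg h
      · exact hfx ((j x).isPrime.mem_of_pow_mem _ h)
    · change (𝓙 ^ (n + 1)).subschemeι.appTop (toΓ j a) = _
      rw [hsmul, ha, map_mul, hb, map_mul, map_mul, map_pow, map_pow, mul_assoc]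
  · refine eq_zero_of_forall z fun w => ?_
    obtain ⟨f, hf, hfz⟩ := hz (j ((𝓙 ^ (n + 1)).subschemeι w)) ⟨_, rfl⟩
    refine ⟨(𝓙 ^ (n + 1)).subschemeι.appTop (toΓ j f), ?_, hfz⟩
    have h1 : w ∈ (𝓙 ^ (n + 1)).subschemeι ⁻¹ᵁ (W.basicOpen (toΓ j f)) :=
      (mem_basicOpen_toΓ j f _).mpr hf
    rw [(𝓙 ^ (n + 1)).subschemeι.preimage_basicOpen (toΓ j f)] at h1
    exact h1

/-- Injectivity. -/
theorem inj [IsDomain A] (x₀ : W) (hx₀ : J ≤ (j x₀).asIdeal) (b : Γ(W, ⊤))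
    (hb : ∀ n : ℕ, (((idJ J).comap j) ^ (n + 1)).subschemeι.appTop b = 0) : b = 0 := by
  have hNW : NoetherianSpace W := j.isOpenEmbedding.isInducing.noetherianSpace
  have h0 : ∀ a : A, toΓ j a = 0 → a = 0 := by
    intro a ha
    obtain ⟨f, hf, hfa⟩ := exists_mul_eq_zero j a ha x₀
    rcases mul_eq_zero.1 hfa with h | h
    · exact absurd (h ▸ (j x₀).asIdeal.zero_mem) hf
    · exact h
  obtain ⟨f, hf, a, ha⟩ := exists_mul_eq j b x₀
  have ha0 : a = 0 := by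
    refine ExtAlg.eq_zero_of_forall_pow J (j x₀).asIdeal hx₀ a fun n => ?_
    have h1 : (((idJ J).comap j) ^ (n + 1)).subschemeι.appTop (toΓ j a) = 0 := by
      rw [ha, map_mul, hb, mul_zero]
    obtain ⟨g, hg, hga⟩ := exists_mul_mem J j (n + 1) a h1 x₀
    exact ⟨g, hg, Ideal.pow_le_pow_right (Nat.le_succ n) hga⟩
  have hfb : toΓ j f * b = 0 := by rw [← ha, ha0, map_zero]
  have hf0 : f ≠ 0 := fun h => hf (h ▸ (j x₀).asIdeal.zero_mem)
  refine eq_zero_of_forall b fun w => ?_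
  obtain ⟨g, hg, c, hc⟩ := exists_mul_eq j b w
  refine ⟨toΓ j g, (mem_basicOpen_toΓ j g w).mpr hg, ?_⟩
  have h1 : f * c = 0 := h0 _ (by rw [map_mul, hc, mul_left_comm, hfb, mul_zero])
  rw [← hc, (mul_eq_zero.1 h1).resolve_left hf0, map_zero]

include hV hO hR in
/-- **`Γ(W, O) = lim Γ(W, O/J^(n+1))`.** -/
theorem gammaComplete [IsDomain A] (x₀ : W) (hx₀ : J ≤ (j x₀).asIdeal) :
    LefBasic.GammaComplete ((idJ J).comap j) := by
  refine ⟨fun s t h => ?_, fun y hy => ?_⟩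
  · rw [← sub_eq_zero]
    refine inj j x₀ hx₀ _ fun n => ?_
    rw [map_sub, sub_eq_zero]
    exact h n
  · obtain ⟨c, hc⟩ := surj hV hO j hR y hy
    exact ⟨toΓ j c, fun n => (hc n).symm⟩

end Gamma

section Lef

variable {A : Type u} [CommRing A] [IsDomain A] [IsNoetherianRing A] {J : Ideal A}
  {V : (Spec (CommRingCat.of A)).Opens}

/-- **The Lefschetz condition.** -/
theorem lefCond (hV : IsCompact (V : Set (Spec (CommRingCat.of A)))) (hO : OneFacts J V)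
    (U : (Spec (CommRingCat.of A)).Opens) (hVU : V ≤ U) (p : PrimeSpectrum A)
    (hJp : J ≤ p.asIdeal) (hpV : (show Spec (CommRingCat.of A) from p) ∈ V) :
    Lef.LefCond (↑U : Scheme.{u}) ((idJ J).comap U.ι) := by
  intro W hW D hD
  have hmem : ∀ q : Spec (CommRingCat.of A), J ≤ (show PrimeSpectrum A from q).asIdeal → q ∈ V →
      q ∈ Set.range (W.ι ≫ U.ι) := by
    intro q hJq hqV
    let x : (U : Scheme.{u}) := ⟨q, hVU hqV⟩
    have hx : U.ι x = q := rfl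
    have hqK : q ∈ Set.range (Spec.map (CommRingCat.ofHom (Ideal.Quotient.mk J))) := by
      have h1 := _root_.range_comap_of_surjective _ (Ideal.Quotient.mk J) Ideal.Quotient.mk_surjective
      have h2 : (show PrimeSpectrum A from q) ∈
          Set.range (PrimeSpectrum.comap (Ideal.Quotient.mk J)) := by
        rw [h1, Ideal.mk_ker, PrimeSpectrum.mem_zeroLocus]
        exact hJq
      exact h2
    have hxI : x ∈ (((idJ J).comap U.ι).support : Set _) := by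
      rw [Scheme.IdealSheafData.support_comap]
      exact Scheme.Hom.range_subset_ker_support _ hqK
    exact ⟨⟨x, hW hxI⟩, rfl⟩
  have hNW : NoetherianSpace (W : Scheme.{u}) :=
    (W.ι ≫ U.ι).isOpenEmbedding.isInducing.noetherianSpace
  have hqc : QuasiCompact (W.ι ≫ U.ι) := inferInstance
  obtain ⟨x₀, hx₀⟩ := hmem p hJp hpV
  rw [← Scheme.IdealSheafData.comap_comp]
  refine LefQcoh.bijective_of_isQCoh (W.ι ≫ U.ι) D (Groth.Agent.Ega2.QCohLocal.isQCoh_of_isFinLocFree hD)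
    (gammaComplete hV hO (W.ι ≫ U.ι) hmem x₀ ?_)
  rw [hx₀]
  exact hJp

end Lef

end Groth.Agent.LefX.K947.ExtLef
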