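import Groth.Agent.LefX.K947.ExtOne

/-!
# Functions on the formal neighbourhood of `V(J)` in an open, the algebra
-/

set_option autoImplicit false
universe u

open CategoryTheory CategoryTheory.Limits AlgebraicGeometry Opposite TopologicalSpace

namespace Groth.Agent.LefX.K947.ExtLefAlg

open Groth.Agent.FormalB.ModPow Groth.Agent.FormalB.PuncTheta Groth.Agent.FormalB.PuncTheta2
  Groth.Agent.LefX.K947.ExtSec Groth.Agent.LefX.K947.ExtTower Groth.Agent.LefX.K947.ExtOne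

variable {A : Type u} [CommRing A] {J : Ideal A} {V : (Spec (CommRingCat.of A)).Opens}
  (hV : IsCompact (V : Set (Spec (CommRingCat.of A)))) (hO : OneFacts J V)
  (R : Set (Spec (CommRingCat.of A)))
  (hR : ∀ q : Spec (CommRingCat.of A), J ≤ (show PrimeSpectrum A from q).asIdeal → q ∈ V → q ∈ R)
  (S : ℕ → Type u) [∀ n, AddCommGroup (S n)] [∀ n, Module A (S n)]
  (κ : ∀ n, A →ₗ[A] S n) (τ : ∀ n, S (n + 1) →ₗ[A] S n)
  (hτκ : ∀ n a, τ n (κ (n + 1) a) = κ n a)
  (hker : ∀ n a, κ n a = 0 → ∀ q ∈ R, ∃ f : A, q ∈ D f ∧ f * a ∈ J ^ (n + 1))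
  (hkill : ∀ n, ∀ a ∈ J ^ (n + 1), ∀ z : S n, a • z = 0)
  (hgen : ∀ n (z : S n), ∀ q ∈ R, ∃ f : A, q ∈ D f ∧ ∃ a : A, κ n a = f • z)
  (hloc : ∀ n (z : S n), (∀ q ∈ R, ∃ f : A, q ∈ D f ∧ f • z = 0) → z = 0)

theorem exists_pow_not_mem (n : ℕ) (q : Spec (CommRingCat.of A))
    (h : ¬ J ≤ (show PrimeSpectrum A from q).asIdeal) : ∃ f ∈ J ^ (n + 1), q ∈ D f := by
  obtain ⟨f, hf, hfq⟩ := SetLike.not_le_iff_exists.1 h
  exact ⟨f ^ (n + 1), Ideal.pow_mem_pow hf _, fun hmem =>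
    hfq ((show PrimeSpectrum A from q).isPrime.mem_of_pow_mem _ hmem)⟩

include hR hker in
theorem isTors_cl (n : ℕ) (a : A) (ha : κ n a = 0) : IsTors V (cl J n a) := by
  refine isTors_of_forall_mem _ fun x hx => ?_
  by_cases hJ : J ≤ (show PrimeSpectrum A from x).asIdeal
  · obtain ⟨f, hf, hfa⟩ := hker n a ha x (hR x hJ hx)
    exact ⟨f, hf, by rw [← map_smul, cl_eq_zero_iff]; exact hfa⟩
  · obtain ⟨f, hf, hxf⟩ := exists_pow_not_mem n x hJ
    exact ⟨f, hxf, by rw [← map_smul, cl_eq_zero_iff]; exact Ideal.mul_mem_right _ _ hf⟩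

include hR hkill hgen in
theorem isTorsOn_coker (n : ℕ) : IsTorsOn V (S n ⧸ LinearMap.range (κ n)) := by
  refine isTorsOn_of_isTors fun z => ?_
  obtain ⟨z, rfl⟩ := Submodule.Quotient.mk_surjective _ z
  refine isTors_mk_of_forall_mem _ _ fun x hx => ?_
  by_cases hJ : J ≤ (show PrimeSpectrum A from x).asIdeal
  · obtain ⟨f, hf, a, ha⟩ := hgen n z x (hR x hJ hx)
    exact ⟨f, hf, a, ha⟩
  · obtain ⟨f, hf, hxf⟩ := exists_pow_not_mem n x hJ
    exact ⟨f, hxf, 0, by rw [map_zero, hkill n f hf]⟩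

include hV hR hker hkill hgen in
theorem exists_chi (n : ℕ) : ∃ χ : S n →ₗ[A] SN J V n, ∀ a, χ (κ n a) = η V _ (cl J n a) := by
  let φ : A →ₗ[A] SN J V n := (η V (A ⧸ J ^ (n + 1))).comp (cl J n)
  have h1 : ∀ a, κ n a = 0 → φ a = 0 := fun a ha =>
    (η_eq_zero_iff V hV (cl J n a)).2 (isTors_cl R hR S κ hker n a ha)
  obtain ⟨χ, hχ⟩ := exists_extend V (F := (Theta V).obj (ModuleCat.of A (A ⧸ J ^ (n + 1)))) (κ n)
    (isTorsOn_coker R hR S κ hkill hgen n) φ h1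
  exact ⟨χ, fun a => hχ a⟩

include hV hO hR hτκ hker hkill hgen hloc in
/-- **Surjectivity.** -/
theorem exists_eq (y : ∀ n, S n) (hy : ∀ n, τ n (y (n + 1)) = y n) : ∃ c : A, ∀ n, y n = κ n c := by
  choose χ hχ using exists_chi hV R hR S κ hker hkill hgen
  have hcomp : ∀ (n : ℕ) (z : S (n + 1)), Hmap V (fac J (Nat.le_succ n)) (χ (n + 1) z) = χ n (τ n z) := by
    intro n z
    have h1 := linearMap_ext V (κ (n + 1)) (isTorsOn_coker R hR S κ hkill hgen (n + 1))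
      ((Hmap V (fac J (Nat.le_succ n))).comp (χ (n + 1))) ((χ n).comp (τ n)) (fun a => by
        rw [LinearMap.comp_apply, LinearMap.comp_apply, hχ, hτκ, hχ, Hmap_η, fac_cl])
    exact congrArg (fun t : S (n + 1) →ₗ[A] SN J V n => t z) h1
  obtain ⟨c, hc⟩ := hO.lim (mkS (fun n => χ n (y n)) fun n => by rw [hcomp, hy])
  have hc' : ∀ n, χ n (y n) = η V _ (cl J n c) := fun n => by
    have h1 := congrArg (co n) hc
    rwa [co_mkS, co_ofA] at h1
  refine ⟨c, fun n => ?_⟩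
  obtain ⟨n₀, hn₀⟩ := hO.sat
  -- the difference is torsion
  have hker' : ∀ (m : ℕ) (z : S m), χ m z = 0 → IsTors V z := by
    intro m z hz g hg
    obtain ⟨k, a, ha⟩ := (isTors_mk_iff _ z).1
      (isTors_of_isTorsOn (isTorsOn_coker R hR S κ hkill hgen m) _) g hg
    have h1 : η V _ (cl J m a) = 0 := by
      rw [← hχ, ha, map_smul, hz, smul_zero]
    rw [η_eq_zero_iff V hV] at h1
    obtain ⟨l, hl⟩ := h1 g hg
    rw [← map_smul, cl_eq_zero_iff] at hl
    refine ⟨l + k, ?_⟩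
    have h2 : κ m (g ^ l • a) = 0 := by
      have h3 := hkill m _ hl (κ m 1)
      rwa [← map_smul, smul_eq_mul, mul_one] at h3
    rw [pow_add, mul_smul, ← ha, ← map_smul, h2]
  have hz : ∀ m, IsTors V (y m - κ m c) := fun m => hker' m _ (by
    rw [map_sub, hc', hχ, sub_self])
  -- the family of differences
  let z : ∀ m, S m := fun m => y m - κ m c
  have hzτ : ∀ m, τ m (z (m + 1)) = z m := fun m => by
    change τ m (y (m + 1) - κ (m + 1) c) = y m - κ m c
    rw [map_sub, hy, hτκ]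
  have hmul : ∀ (m : ℕ) (f a : A), κ (n + m) a = f • z (n + m) → κ n a = f • z n := by
    intro m
    induction m with
    | zero => exact fun f a h => h
    | succ m ih =>
      intro f a h
      refine ih f a ?_
      have h1 := congrArg (τ (n + m)) (show κ (n + m + 1) a = f • z (n + m + 1) from h)
      rwa [hτκ, map_smul, hzτ] at h1
  rw [← sub_eq_zero]
  change z n = 0
  refine hloc n _ fun q hq => ?_
  obtain ⟨f, hf, a, ha⟩ := hgen (n + n₀) (z (n + n₀)) q hq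
  refine ⟨f, hf, ?_⟩
  have h1 : IsTors V (cl J (n + n₀) a) := by
    have h2 : IsTors V (κ (n + n₀) a) := by
      rw [ha]
      exact (hz (n + n₀)).smul f
    intro g hg
    obtain ⟨k, hk⟩ := h2 g hg
    rw [← map_smul] at hk
    obtain ⟨l, hl⟩ := isTors_cl R hR S κ hker (n + n₀) _ hk g hg
    refine ⟨l + k, ?_⟩
    rw [pow_add g l k, mul_smul, ← map_smul (cl J (n + n₀)) (g ^ k)]
    exact hl
  have h3 := hn₀ n a h1
  rw [← hmul n₀ f a ha]
  have h4 := hkill n a h3 (κ n 1)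
  rwa [← map_smul, smul_eq_mul, mul_one] at h4

end Groth.Agent.LefX.K947.ExtLefAlg
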