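import Groth.Agent.LefX.K947.ExtOne
import Groth.Agent.Sga2lef.H100.GrFree

/-!
# Extension of the sections of a locally free formal system

`V ≤ U` opens of `Spec A` such that the formal functions on `V` are those of `A` (`OneFacts`), `G` a locally free
formal system for `J` on `U`.  Sections over `V` of `G_{n+n₁}` extend, in `G_n`, locally to `U`, and sections of
`G_{n+n₀}` vanishing on `V` vanish in `G_n`.  So `lim Γ(V, G_n) = lim Γ(U, G_n)` (`exists_chi`).
-/

set_option autoImplicit false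
universe u

open CategoryTheory CategoryTheory.Limits AlgebraicGeometry Opposite TopologicalSpace

namespace Groth.Agent.LefX.K947.ExtLocal

open Groth.Agent.FormalB.ModPow Groth.Agent.FormalB.PuncTheta Groth.Agent.FormalB.PuncTheta2
  Groth.Agent.FormalB.PrincTower Groth.Agent.FormalB.FreeUpTo
  Groth.Agent.LefX.K947.ExtSec Groth.Agent.LefX.K947.ExtTower Groth.Agent.LefX.K947.ExtOne

section Pi

variable {A : Type u} [CommRing A] {V : (Spec (CommRingCat.of A)).Opens}

theorem isTors_pi {M : Type u} [AddCommGroup M] [Module A M] {r : ℕ} (w : Fin r → M)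
    (h : ∀ i, IsTors V (w i)) : IsTors V w := by
  intro g hg
  choose k hk using fun i => h i g hg
  refine ⟨∑ i, k i, funext fun i => ?_⟩
  have h1 : ∑ j, k j = (∑ j ∈ Finset.univ.erase i, k j) + k i :=
    (Finset.sum_erase_add _ _ (Finset.mem_univ i)).symm
  rw [Pi.smul_apply, h1, pow_add, mul_smul, hk, smul_zero]
  rfl

theorem pi_ext (hV : IsCompact (V : Set (Spec (CommRingCat.of A)))) {M : Type u} [AddCommGroup M]
    [Module A M] {r : ℕ} (y : (Gam V).obj ((Theta V).obj (ModuleCat.of A (Fin r → M))))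
    (h : ∀ i, Hmap V (LinearMap.proj (R := A) (φ := fun _ : Fin r => M) i) y = 0) : y = 0 := by
  refine eq_zero_of_isTors V _ fun g hg => ?_
  obtain ⟨l, w, hw⟩ := exists_η V hV g hg y
  have h1 : IsTors V w := isTors_pi w fun i => by
    rw [← η_eq_zero_iff V hV]
    have h2 := Hmap_η V (LinearMap.proj (R := A) (φ := fun _ : Fin r => M) i) w
    rw [hw, map_smul, h i, smul_zero] at h2
    exact h2.symm
  obtain ⟨k, hk⟩ := h1 g hg
  refine ⟨k + l, ?_⟩
  rw [pow_add, mul_smul, ← hw, ← map_smul, hk, map_zero]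

variable {J : Ideal A}

theorem map_cl_pi {m r : ℕ} {X : Type u} [AddCommGroup X] [Module A X]
    (f : (Fin r → A ⧸ J ^ (m + 1)) →ₗ[A] X) (c : Fin r → A) :
    f (fun i => cl J m (c i)) = ∑ i, c i • f (Pi.single i (cl J m 1)) := by
  have h1 : (fun i => cl J m (c i)) = ∑ i, c i • (Pi.single i (cl J m 1) : Fin r → A ⧸ J ^ (m + 1)) := by
    funext i
    rw [Finset.sum_apply, Finset.sum_eq_single i]
    · rw [Pi.smul_apply, Pi.single_eq_same, ← map_smul, smul_eq_mul, mul_one]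
    · intro j _ hj
      rw [Pi.smul_apply, Pi.single_eq_of_ne hj.symm, smul_zero]
    · intro h; exact absurd (Finset.mem_univ i) h
  rw [h1, map_sum]
  exact Finset.sum_congr rfl fun i _ => map_smul _ _ _

/-- reduction of tuples -/
def facPi (J : Ideal A) (r : ℕ) {n m : ℕ} (h : n ≤ m) :
    (Fin r → A ⧸ J ^ (m + 1)) →ₗ[A] (Fin r → A ⧸ J ^ (n + 1)) := (fac J h).compLeft (Fin r)

theorem facPi_cl {r n m : ℕ} (h : n ≤ m) (c : Fin r → A) :
    facPi J r h (fun i => cl J m (c i)) = fun i => cl J n (c i) := rfl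

theorem exists_cl_pi {r m : ℕ} (v : Fin r → A ⧸ J ^ (m + 1)) : ∃ c : Fin r → A,
    v = fun i => cl J m (c i) := by
  choose c hc using fun i => cl_surjective J m (v i)
  exact ⟨c, funext fun i => (hc i).symm⟩

theorem facPi_surjective {r n m : ℕ} (h : n ≤ m) : Function.Surjective (facPi J r h) := by
  intro v
  obtain ⟨c, rfl⟩ := exists_cl_pi v
  exact ⟨fun i => cl J m (c i), facPi_cl h c⟩

/-- formal functions, for tuples -/
theorem lift_pi (hV : IsCompact (V : Set (Spec (CommRingCat.of A)))) {r n m : ℕ} (h : n ≤ m)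
    (hl : ∀ σ : (Gam V).obj ((Theta V).obj (ModuleCat.of A (A ⧸ J ^ (m + 1)))),
      ∃ c : A, Hmap V (fac J h) σ = η V _ (cl J n c))
    (σ : (Gam V).obj ((Theta V).obj (ModuleCat.of A (Fin r → A ⧸ J ^ (m + 1))))) :
    ∃ c : Fin r → A, Hmap V (facPi J r h) σ = η V _ (fun i => cl J n (c i)) := by
  choose c hc using fun i => hl (Hmap V (LinearMap.proj (R := A) (φ := fun _ => A ⧸ J ^ (m + 1)) i) σ)
  refine ⟨c, ?_⟩
  rw [← sub_eq_zero]
  refine pi_ext hV _ fun i => ?_
  rw [map_sub, Hmap_η, sub_eq_zero, ← Hmap_comp]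
  exact (Hmap_comp V (LinearMap.proj (R := A) (φ := fun _ => A ⧸ J ^ (m + 1)) i) (fac J h) σ).trans (hc i)

end Pi

section Local

variable {A : Type u} [CommRing A] {J : Ideal A} {U V : (Spec (CommRingCat.of A)).Opens}
  {G : ℕᵒᵖ ⥤ (U : Scheme.{u}).Modules}

/-- The sections over `U`. -/
noncomputable abbrev PP (G : ℕᵒᵖ ⥤ (U : Scheme.{u}).Modules) : ℕᵒᵖ ⥤ ModuleCat.{u} A := G ⋙ Gam U

/-- The transition maps. -/
noncomputable def trP (G : ℕᵒᵖ ⥤ (U : Scheme.{u}).Modules) {n m : ℕ} (h : n ≤ m) :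
    ((Gam U).obj (G.obj (op m)) : Type u) →ₗ[A] ((Gam U).obj (G.obj (op n)) : Type u) :=
  ((Gam U).map (G.map (homOfLE h).op)).hom

theorem trP_trP {a b c : ℕ} (h : a ≤ b) (h' : b ≤ c) (y : (Gam U).obj (G.obj (op c))) :
    trP G h (trP G h' y) = trP G (h.trans h') y := map_comp_apply (PP G) h h' y

theorem killedP (hG : IsFormal J G) (n : ℕ) (a : A) (ha : a ∈ J ^ (n + 1))
    (y : (Gam U).obj (G.obj (op n))) : a • y = 0 := by
  have h1 := gam_map_smulMod U (G.obj (op n)) a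
  rw [hG.killed n a ha, Functor.map_zero] at h1
  exact (congrArg (fun t => t.hom y) h1).symm

variable [IsNoetherianRing A]

theorem exists_chart (hU : IsCompact (U : Set (Spec (CommRingCat.of A)))) (m : ℕ)
    (hcoh : Coh.IsCoh (G.obj (op m))) (hfree : Formal2.IsFinLocFreeMod J (m + 1) (G.obj (op m)))
    (x : Spec (CommRingCat.of A)) (hx : x ∈ U) :
    ∃ (g : A) (N : Submodule A ((Gam U).obj (G.obj (op m)))) (r k : ℕ)
      (a : N →ₗ[A] (Fin r → A ⧸ J ^ (m + 1))) (b : (Fin r → A ⧸ J ^ (m + 1)) →ₗ[A] N),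
      x ∈ D g ∧ D g ≤ U ∧ IsTorsOn U (((Gam U).obj (G.obj (op m)) : Type u) ⧸ N) ∧
      ∀ y, b (a y) = g ^ k • y := by
  obtain ⟨N, hN, hN'⟩ := exists_fg_isTorsOn U hU (G.obj (op m)) hcoh
  have hiso := isIso_subToMod U hU hcoh.1 N hN'
  have hNf : Module.Finite A N := Module.Finite.iff_fg.2 hN
  have hNp : Module.FinitePresentation A N := Module.finitePresentation_of_finite A N
  have hB : Module.FinitePresentation A (A ⧸ J ^ (m + 1)) := Module.finitePresentation_of_finite A _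
  obtain ⟨g, hxg, hgU, r, hfr⟩ := FormalB.LocFreeTheta.exists_isFreeUpTo U J (m + 1) _ hfree
    (asIso (subToMod U N)) x hx
  obtain ⟨k, a, b, hba, -⟩ := hfr
  exact ⟨g, N, r, k, a, b, hxg, hgU, hN', hba⟩

variable (hVU : V ≤ U) (hU : IsCompact (U : Set (Spec (CommRingCat.of A))))
  (hV : IsCompact (V : Set (Spec (CommRingCat.of A))))
  (hG : IsFormal J G) (hcoh : ∀ n : ℕ, Coh.IsCoh (G.obj (op n)))
  (hfree : ∀ n : ℕ, Formal2.IsFinLocFreeMod J (n + 1) (G.obj (op n)))

include hU hG hcoh hfree in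
/-- Sections vanishing on `V`. -/
theorem tr_eq_zero {n m : ℕ} (h : n ≤ m)
    (hs : ∀ c : A, IsTors V (cl J m c) → c ∈ J ^ (n + 1))
    (y : (Gam U).obj (G.obj (op m))) (hy : IsTors V y) : trP G h y = 0 := by
  refine eq_zero_of_isTors U _ (isTors_of_forall_mem _ fun x hx => ?_)
  obtain ⟨g, N, r, k, a, b, hxg, hgU, hN', hba⟩ := exists_chart hU m (hcoh m) (hfree m) x hx
  obtain ⟨l, hl⟩ := (isTors_mk_iff N y).1 (isTors_of_isTorsOn hN' _) g hgU
  let y' : N := ⟨g ^ l • y, hl⟩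
  have hy' : IsTors V y' := by
    intro s hs
    obtain ⟨j, hj⟩ := (hy.smul (g ^ l)) s hs
    exact ⟨j, Subtype.ext hj⟩
  obtain ⟨c, hc⟩ := exists_cl_pi (a y')
  have hc' : ∀ i, c i ∈ J ^ (n + 1) := by
    intro i
    apply hs
    have h1 := (hy'.map a).map (LinearMap.proj (R := A) (φ := fun _ : Fin r => A ⧸ J ^ (m + 1)) i)
    rw [hc] at h1
    exact h1
  refine ⟨g ^ (k + l), fun hmem => hxg ((x : PrimeSpectrum A).isPrime.mem_of_pow_mem _ hmem), ?_⟩
  have h2 : g ^ (k + l) • y = N.subtype (b (a y')) := by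
    rw [hba, pow_add, mul_smul]
    rfl
  rw [← map_smul, h2, hc]
  have h3 := map_cl_pi (((trP G h).comp N.subtype).comp b) c
  refine Eq.trans h3 (Finset.sum_eq_zero fun i _ => ?_)
  exact killedP hG n (c i) (hc' i) _

include hVU hU hV hG hcoh hfree in
/-- Sections over `V` extend locally. -/
theorem exists_tr_eq {n m : ℕ} (h : n ≤ m)
    (hl : ∀ σ : (Gam V).obj ((Theta V).obj (ModuleCat.of A (A ⧸ J ^ (m + 1)))),
      ∃ c : A, Hmap V (fac J h) σ = η V _ (cl J n c))
    (q : (Gam V).obj ((Theta V).obj (ModuleCat.of A ((Gam U).obj (G.obj (op m)) : Type u))))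
    (x : Spec (CommRingCat.of A)) (hx : x ∈ U) :
    ∃ g : A, x ∈ D g ∧ ∃ p : (Gam U).obj (G.obj (op n)), g • Hmap V (trP G h) q = η V _ p := by
  obtain ⟨g, N, r, k, a, b, hxg, hgU, hN', hba⟩ := exists_chart hU m (hcoh m) (hfree m) x hx
  have hbij := Hmap_surjective V N.subtype (by
    intro g hg y
    refine ⟨0, ?_⟩
    have hq : y = 0 := Subtype.ext (N.injective_subtype (by simp))
    rw [hq, smul_zero]) (by
    rw [Submodule.range_subtype]
    exact isTorsOn_mono hVU hN')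
  obtain ⟨q', rfl⟩ := hbij.2 q
  obtain ⟨c, hc⟩ := lift_pi (r := r) hV h hl (Hmap V a q')
  obtain ⟨bn, hbn⟩ := K177.GrDepth.exists_factor (facPi J r h) (facPi_surjective h)
    (((trP G h).comp N.subtype).comp b) (by
      intro v hv
      obtain ⟨c, rfl⟩ := exists_cl_pi v
      rw [LinearMap.mem_ker] at hv ⊢
      rw [map_cl_pi]
      refine Finset.sum_eq_zero fun i _ => ?_
      refine killedP hG n (c i) ?_ _
      exact (cl_eq_zero_iff J n (c i)).1 (congrFun hv i))
  refine ⟨g ^ k, fun hmem => hxg ((x : PrimeSpectrum A).isPrime.mem_of_pow_mem _ hmem),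
    bn (fun i => cl J n (c i)), ?_⟩
  have h1 : g ^ k • q' = Hmap V b (Hmap V a q') := by
    rw [← Hmap_comp]
    have h2 : b.comp a = g ^ k • (LinearMap.id : N →ₗ[A] N) := LinearMap.ext fun y => hba y
    have h3 : Hmap V (g ^ k • (LinearMap.id : N →ₗ[A] N)) q' = g ^ k • q' := by
      have h4 := theta_map_smul V N (g ^ k)
      have h5 := gam_map_smulMod V ((Theta V).obj (ModuleCat.of A N)) (g ^ k)
      rw [← h4] at h5
      exact congrArg (fun t => t.hom q') h5
    rw [h2, h3]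
  have h6 : ((trP G h).comp N.subtype).comp b = bn.comp (facPi J r h) :=
    LinearMap.ext fun v => (hbn v).symm
  rw [← Hmap_η, ← hc, ← Hmap_comp V (facPi J r h) bn, ← h6, Hmap_comp, Hmap_comp, ← h1,
    map_smul, map_smul]

end Local

end Groth.Agent.LefX.K947.ExtLocal
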