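import Groth.Agent.LefX.K947.ExtSys
import Groth.Agent.LefX.K947.ExtLef

/-!
# The effective Lefschetz condition from the depth of `gr_J(A)` off a small closed set
-/

set_option autoImplicit false
universe u

open CategoryTheory CategoryTheory.Limits AlgebraicGeometry Opposite TopologicalSpace

namespace Groth.Agent.LefX.K947.ExtMain

/-- **The effective Lefschetz condition.**  `A` a normal Noetherian domain, a quotient of a regular ring, complete for
`J`; `𝔠 ≤ 𝔞` ideals such that `depth gr_J(A)_P ≥ 2` for all primes `P` off `V(𝔠)` with a direct specialization in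
`V(𝔠)`, and `V(J)` is not contained in `V(𝔠)`.  Then `Leff(U, U ∩ V(J))` for `U = Spec A - V(𝔞)`. -/
theorem leffCond_of_depth {A : Type u} [CommRing A] [IsDomain A] [IsIntegrallyClosed A]
    [IsNoetherianRing A] (R : Type u) [CommRing R] [IsRegularRing R] (π : R →+* A)
    (hπ : Function.Surjective π) (J : Ideal A) [IsAdicComplete J A] (𝔞 𝔠 : Ideal A) (hle : 𝔠 ≤ 𝔞)
    (hD : K177.GrDepth.DepthHyp (reesAlgebra J ⧸ J.map (algebraMap A (reesAlgebra J)))
      (𝔠.map (algebraMap A (reesAlgebra J ⧸ J.map (algebraMap A (reesAlgebra J))))))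
    (p : Ideal A) [p.IsPrime] (hJp : J ≤ p) (hcp : ¬ 𝔠 ≤ p)
    (U : (Spec (CommRingCat.of A)).Opens) (hU : U = LocCoh.puncturedOpen A 𝔞) :
    LefX.LeffCond (↑U : Scheme.{u})
      ((Spec.map (CommRingCat.ofHom (Ideal.Quotient.mk J))).ker.comap U.ι) := by
  have hO := ExtSys.oneFacts_of_depth R π hπ hD ⟨p, inferInstance⟩ hJp hcp
  refine ⟨?_, fun 𝔐 hlf => ExtSys.second_half hle R π hπ hD hO U hU 𝔐 hlf⟩
  subst hU
  exact ExtLef.lefCond (ExtSys.isCompact_punc 𝔠) hO _ (ExtSys.punc_mono hle) ⟨p, inferInstance⟩ hJp hcp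

end Groth.Agent.LefX.K947.ExtMain
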