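import Groth.Agent.LefX.K947.ExtTower
import Groth.Agent.LefX.K947.ExtAlg
import Groth.Agent.FormalB.LocFreeTheta
import Groth.Agent.FormalB.PuncAlg

/-!
# Formal functions on an open of the spectrum of a complete normal domain

`A` a normal Noetherian domain, `V` an open of `Spec A` meeting `V(J)`.  If `lim Γ(V, O/J^(n+1))` is finite with
filtration `J`-adic up to a shift then it is `A`.
-/

set_option autoImplicit false
universe u

open CategoryTheory CategoryTheory.Limits AlgebraicGeometry Opposite TopologicalSpace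

namespace Groth.Agent.LefX.K947.ExtOne

open Groth.Agent.FormalB.ModPow Groth.Agent.FormalB.PuncTheta Groth.Agent.FormalB.PuncTheta2
  Groth.Agent.LefX.K947.ExtSec Groth.Agent.LefX.K947.ExtTower

section Sys

variable {A : Type u} [CommRing A] (J : Ideal A)

/-- `A/J^(m+1) → A/J^(n+1)`. -/
def fac {n m : ℕ} (h : n ≤ m) : (A ⧸ J ^ (m + 1)) →ₗ[A] (A ⧸ J ^ (n + 1)) :=
  Submodule.factor (Ideal.pow_le_pow_right (Nat.succ_le_succ h))

/-- The class of `c` in `A/J^(n+1)`. -/
def cl (n : ℕ) : A →ₗ[A] (A ⧸ J ^ (n + 1)) := Submodule.mkQ (J ^ (n + 1))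

theorem cl_surjective (n : ℕ) : Function.Surjective (cl J n) := Submodule.mkQ_surjective _

theorem cl_eq_zero_iff (n : ℕ) (c : A) : cl J n c = 0 ↔ c ∈ J ^ (n + 1) :=
  Submodule.Quotient.mk_eq_zero _

theorem fac_cl {n m : ℕ} (h : n ≤ m) (c : A) : fac J h (cl J m c) = cl J n c := rfl

theorem fac_surjective {n m : ℕ} (h : n ≤ m) : Function.Surjective (fac J h) := by
  intro y
  obtain ⟨c, rfl⟩ := cl_surjective J _ y
  exact ⟨cl J m c, rfl⟩

/-- The system `n ↦ A/J^(n+1)`. -/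
def BJ : ℕᵒᵖ ⥤ ModuleCat.{u} A where
  obj n := ModuleCat.of A (A ⧸ J ^ (n.unop + 1))
  map {n m} f := ModuleCat.ofHom (fac J (leOfHom f.unop))
  map_id n := by
    refine ModuleCat.hom_ext (LinearMap.ext fun x => ?_)
    obtain ⟨x, rfl⟩ := cl_surjective J _ x
    rfl
  map_comp f g := by
    refine ModuleCat.hom_ext (LinearMap.ext fun x => ?_)
    obtain ⟨x, rfl⟩ := cl_surjective J _ x
    rfl

theorem BJ_map {n m : ℕ} (h : n ≤ m) :
    (BJ J).map (homOfLE h).op = ModuleCat.ofHom (fac J h) := rfl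

theorem ker_fac {n m : ℕ} (h : n ≤ m) :
    LinearMap.ker (fac J h) = J ^ (n + 1) • (⊤ : Submodule A (A ⧸ J ^ (m + 1))) := by
  apply le_antisymm
  · intro x hx
    obtain ⟨c, rfl⟩ := cl_surjective J _ x
    have hc : c ∈ J ^ (n + 1) := (cl_eq_zero_iff J n c).1 hx
    have h1 : cl J m c = c • cl J m 1 := by rw [← map_smul, smul_eq_mul, mul_one]
    rw [h1]
    exact Submodule.smul_mem_smul hc trivial
  · rw [Submodule.smul_le]
    intro a ha x _
    obtain ⟨c, rfl⟩ := cl_surjective J _ x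
    rw [LinearMap.mem_ker, ← map_smul, fac_cl, cl_eq_zero_iff]
    exact Ideal.mul_mem_right _ _ ha

variable (V : (Spec (CommRingCat.of A)).Opens)

theorem isFormal_BJ : IsFormal J (BJ J ⋙ Theta V) where
  killed n a ha := by
    have h1 := theta_map_smul V (A ⧸ J ^ (n + 1)) a
    have h2 : ModuleCat.ofHom (a • (LinearMap.id : (A ⧸ J ^ (n + 1)) →ₗ[A] (A ⧸ J ^ (n + 1)))) = 0 := by
      refine ModuleCat.hom_ext (LinearMap.ext fun x => ?_)
      obtain ⟨c, rfl⟩ := cl_surjective J _ x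
      change a • cl J n c = 0
      rw [← map_smul, cl_eq_zero_iff]
      exact Ideal.mul_mem_right _ _ ha
    rw [h2, Functor.map_zero] at h1
    exact h1.symm
  succ n := isModPow_thetaMap V (J ^ (n + 1)) (fac J (Nat.le_succ n))
    (fac_surjective J _) (ker_fac J _)

theorem isCoh_BJ (n : ℕ) : Coh.IsCoh ((BJ J ⋙ Theta V).obj (op n)) :=
  Groth.Agent.FormalB.PuncAlg.isCoh_tV A V (ModuleCat.of A (A ⧸ J ^ (n + 1)))
    (inferInstance : Module.Finite A (A ⧸ J ^ (n + 1)))

theorem isFinLocFreeMod_BJ (n : ℕ) :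
    Formal2.IsFinLocFreeMod J (n + 1) ((BJ J ⋙ Theta V).obj (op n)) := by
  obtain ⟨e⟩ := Groth.Agent.FormalB.LocFreeTheta.exists_modPow_iso V J (n + 1) 1
  let e' : (BJ J ⋙ Theta V).obj (op n) ≅ (Theta V).obj (ModuleCat.of A (Fin 1 → A ⧸ J ^ (n + 1))) :=
    (Theta V).mapIso (LinearEquiv.funUnique (Fin 1) A (A ⧸ J ^ (n + 1))).symm.toModuleIso
  exact fun x => ⟨⊤, 1, trivial, ⟨(Scheme.Modules.restrictFunctor _).mapIso (e' ≪≫ e.symm)⟩⟩

end Sys

section One

variable {A : Type u} [CommRing A] (J : Ideal A) (V : (Spec (CommRingCat.of A)).Opens)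

/-- The system `Γ(V, O/J^(n+1))`. -/
noncomputable abbrev SJ : ℕᵒᵖ ⥤ ModuleCat.{u} A := BJ J ⋙ Theta V ⋙ Gam V

/-- `Γ(V, O/J^(n+1))` -/
noncomputable abbrev SN (n : ℕ) : ModuleCat.{u} A :=
  (Gam V).obj ((Theta V).obj (ModuleCat.of A (A ⧸ J ^ (n + 1))))

variable {J V}

/-- the components of a formal function -/
noncomputable def co (n : ℕ) : limS (SJ J V) →ₗ[A] SN J V n where
  toFun x := x.1 n
  map_add' _ _ := rfl
  map_smul' _ _ := rfl

theorem co_ext {x y : limS (SJ J V)} (h : ∀ n, co n x = co n y) : x = y := Subtype.ext (funext h)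

theorem co_fac (x : limS (SJ J V)) {n m : ℕ} (h : n ≤ m) : Hmap V (fac J h) (co m x) = co n x :=
  limS_map x h

/-- a formal function from its components -/
def mkS (y : ∀ n : ℕ, SN J V n) (h : ∀ n, Hmap V (fac J (Nat.le_succ n)) (y (n + 1)) = y n) :
    limS (SJ J V) := ⟨y, h⟩

theorem co_mkS (y : ∀ n : ℕ, SN J V n) (h) (n : ℕ) : co n (mkS y h) = y n := rfl

variable (J V) in
/-- Elements of `A` as formal functions. -/
noncomputable def ofA : A →ₗ[A] limS (SJ J V) where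
  toFun c := mkS (fun n => η V _ (cl J n c)) fun n => by rw [Hmap_η, fac_cl]
  map_add' x y := co_ext fun n => by
    change η V _ (cl J n (x + y)) = η V _ (cl J n x) + η V _ (cl J n y)
    rw [map_add, map_add]
  map_smul' a x := co_ext fun n => by
    change η V _ (cl J n (a • x)) = a • η V _ (cl J n x)
    rw [map_smul, map_smul]

theorem co_ofA (c : A) (n : ℕ) : co n (ofA J V c) = η V (A ⧸ J ^ (n + 1)) (cl J n c) := rfl

theorem killed (n : ℕ) (a : A) (ha : a ∈ J ^ (n + 1))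
    (hV : IsCompact (V : Set (Spec (CommRingCat.of A)))) (y : SN J V n) : a • y = 0 := by
  refine eq_zero_of_isTors V _ fun g hg => ?_
  obtain ⟨k, m, hm⟩ := exists_η V hV g hg y
  obtain ⟨c, rfl⟩ := cl_surjective J _ m
  refine ⟨k, ?_⟩
  rw [smul_comm, ← hm, ← map_smul, ← map_smul, (cl_eq_zero_iff J n _).2, map_zero]
  exact Ideal.mul_mem_right _ _ ha

/-- Multiplication by a formal function. -/
theorem exists_endo (hV : IsCompact (V : Set (Spec (CommRingCat.of A)))) (x : limS (SJ J V)) :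
    ∃ φ : limS (SJ J V) →ₗ[A] limS (SJ J V), φ (ofA J V 1) = x := by
  have h1 : ∀ n : ℕ, ∃ f : (A ⧸ J ^ (n + 1)) →ₗ[A] SN J V n,
      ∀ c, f (cl J n c) = c • co n x := fun n =>
    ⟨(J ^ (n + 1)).liftQ (LinearMap.toSpanSingleton A _ (co n x)) (fun a ha => by
      rw [LinearMap.mem_ker, LinearMap.toSpanSingleton_apply]
      exact killed n a ha hV _), fun c => rfl⟩
  choose f hf using h1
  have h2 : ∀ n : ℕ, ∃ φ : SN J V n →ₗ[A] SN J V n,
      ∀ w, φ (η V _ w) = f n w := fun n =>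
    exists_extend V (η V (A ⧸ J ^ (n + 1))) (isTorsOn_coker_η V hV) (f n) (fun w hw => by
      rw [η_eq_zero_iff V hV] at hw
      refine eq_zero_of_isTors V _ fun g hg => ?_
      obtain ⟨k, hk⟩ := hw g hg
      refine ⟨k, ?_⟩
      rw [← map_smul, hk, map_zero])
  choose φ hφ using h2
  have h3 : ∀ n : ℕ, (φ n).comp (Hmap V (fac J (Nat.le_succ n))) =
      (Hmap V (fac J (Nat.le_succ n))).comp (φ (n + 1)) := fun n =>
    linearMap_ext V (η V (A ⧸ J ^ (n + 1 + 1))) (isTorsOn_coker_η V hV) _ _ (fun w => by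
      obtain ⟨c, rfl⟩ := cl_surjective J _ w
      rw [LinearMap.comp_apply, Hmap_η, fac_cl, hφ, hf]
      refine Eq.trans ?_ (congrArg (Hmap V (fac J (Nat.le_succ n))) (hφ (n + 1) (cl J (n + 1) c))).symm
      rw [hf, map_smul, co_fac])
  have h4 : ∀ (n : ℕ) (y : limS (SJ J V)), Hmap V (fac J (Nat.le_succ n)) (φ (n + 1) (co (n + 1) y)) =
      φ n (co n y) := by
    intro n y
    rw [← co_fac y (Nat.le_succ n)]
    exact (congrArg (fun t => t (co (n + 1) y)) (h3 n)).symm
  refine ⟨{ toFun := fun y => mkS (fun n => φ n (co n y)) fun n => h4 n y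
            map_add' := fun y z => co_ext fun n => by
              change φ n (co n (y + z)) = φ n (co n y) + φ n (co n z)
              rw [map_add, map_add]
            map_smul' := fun a y => co_ext fun n => by
              change φ n (co n (a • y)) = a • φ n (co n y)
              rw [map_smul, map_smul] }, ?_⟩
  refine co_ext fun n => ?_
  change φ n (η V _ (cl J n 1)) = co n x
  rw [hφ, hf, one_smul]

end One

section Main

variable {A : Type u} [CommRing A] [IsDomain A] [IsNoetherianRing A] {J : Ideal A}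
  {V : (Spec (CommRingCat.of A)).Opens}

/-- The formal functions have no torsion. -/
theorem eq_zero_of_smul (hV : IsCompact (V : Set (Spec (CommRingCat.of A)))) (b : A)
    (x : limS (SJ J V)) (hb : b ≠ 0) (hx : b • x = 0) : x = 0 := by
  obtain ⟨k, hk⟩ := ExtAlg.exists_artinRees J b hb
  refine co_ext fun n => ?_
  rw [map_zero]
  refine eq_zero_of_isTors V _ fun g hg => ?_
  have h1 : b • co (n + k) x = 0 := by rw [← map_smul, hx, map_zero]
  obtain ⟨l, m, hm⟩ := exists_η V hV g hg (co (n + k) x)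
  obtain ⟨c, rfl⟩ := cl_surjective J _ m
  have h2 : η V (A ⧸ J ^ (n + k + 1)) (cl J (n + k) (b * c)) = 0 := by
    rw [← smul_eq_mul, map_smul, map_smul, hm, smul_comm, h1, smul_zero]
  rw [η_eq_zero_iff V hV] at h2
  obtain ⟨l', hl'⟩ := h2 g hg
  rw [← map_smul, cl_eq_zero_iff, smul_eq_mul, mul_left_comm] at hl'
  have h3 : g ^ l' * c ∈ J ^ (n + 1) := hk (n + 1) _ (by
    have : n + 1 + k = n + k + 1 := by omega
    rw [this]; exact hl')
  refine ⟨l' + l, ?_⟩
  have h4 := co_fac x (Nat.le_add_right n k)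
  rw [← h4, pow_add g l' l, mul_smul, ← map_smul (Hmap V _), ← hm, Hmap_η, fac_cl,
    ← map_smul, ← map_smul, smul_eq_mul]
  have h5 := (cl_eq_zero_iff J n _).2 h3
  rw [h5, map_zero]

omit [IsDomain A] [IsNoetherianRing A] in
theorem ofA_one_ne_zero (hV : IsCompact (V : Set (Spec (CommRingCat.of A)))) (p : PrimeSpectrum A)
    (hJp : J ≤ p.asIdeal) (hpV : (show Spec (CommRingCat.of A) from p) ∈ V) :
    ofA J V 1 ≠ 0 := by
  intro h
  obtain ⟨g, hxg, hgV⟩ := exists_D_le hpV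
  have h1 : η V (A ⧸ J ^ (0 + 1)) (cl J 0 1) = 0 := by
    rw [← co_ofA, h, map_zero]
  rw [η_eq_zero_iff V hV] at h1
  obtain ⟨k, hk⟩ := h1 g hgV
  rw [← map_smul, cl_eq_zero_iff, zero_add, pow_one, smul_eq_mul, mul_one] at hk
  exact hxg (p.isPrime.mem_of_pow_mem _ (hJp hk))

/-- **Formal functions on `V` are functions on `Spec A`.** -/
theorem exists_eq_ofA [IsIntegrallyClosed A] (hV : IsCompact (V : Set (Spec (CommRingCat.of A))))
    (p : PrimeSpectrum A) (hJp : J ≤ p.asIdeal) (hpV : (show Spec (CommRingCat.of A) from p) ∈ V)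
    (hT : TowerFacts J (SJ J V)) (x : limS (SJ J V)) : ∃ c : A, x = ofA J V c := by
  have hf := hT.fin
  obtain ⟨n₀, hn₀⟩ := hT.ker
  obtain ⟨g, hxg, hgV⟩ := exists_D_le hpV
  have hg : g ∉ p.asIdeal := hxg
  obtain ⟨c, hc⟩ := ExtAlg.exists_eq_smul (ofA J V 1) (fun b x => eq_zero_of_smul hV b x)
    (ofA_one_ne_zero hV p hJp hpV) (fun x => by
      obtain ⟨b, hb, hbx⟩ := ExtAlg.exists_smul_mem J p.asIdeal hJp (LinearMap.range (ofA J V))
        (fun x => by
          obtain ⟨k, m, hm⟩ := exists_η V hV g hgV (co (0 + n₀) x)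
          obtain ⟨c, rfl⟩ := cl_surjective J _ m
          refine ⟨g ^ k, fun h => hg (p.isPrime.mem_of_pow_mem _ h), ?_⟩
          have h1 : co (0 + n₀) (g ^ k • x - ofA J V c) = 0 := by
            rw [map_sub, map_smul, co_ofA, hm, sub_self]
          have h2 := hn₀ 0 (g ^ k • x - ofA J V c) h1
          rw [zero_add, pow_one] at h2
          refine Submodule.mem_sup.2 ⟨ofA J V c, ⟨c, rfl⟩, _, h2, ?_⟩
          abel) x
      obtain ⟨c, hc⟩ := hbx
      refine ⟨b, fun h => hb (h ▸ p.asIdeal.zero_mem), c, ?_⟩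
      rw [← hc, ← map_smul, smul_eq_mul, mul_one])
    (exists_endo hV) x
  exact ⟨c, by rw [hc, ← map_smul, smul_eq_mul, mul_one]⟩

theorem ofA_injective (hV : IsCompact (V : Set (Spec (CommRingCat.of A)))) (p : PrimeSpectrum A)
    (hJp : J ≤ p.asIdeal) (hpV : (show Spec (CommRingCat.of A) from p) ∈ V) :
    Function.Injective (ofA J V) := by
  rw [injective_iff_map_eq_zero]
  intro c hc
  by_contra h
  refine ofA_one_ne_zero hV p hJp hpV (eq_zero_of_smul hV c _ h ?_)
  rw [← map_smul, smul_eq_mul, mul_one, hc]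

/-- The consequences for the levels. -/
structure OneFacts (J : Ideal A) (V : (Spec (CommRingCat.of A)).Opens) : Prop where
  sat : ∃ n₀ : ℕ, ∀ (n : ℕ) (c : A), IsTors V (cl J (n + n₀) c) → c ∈ J ^ (n + 1)
  lift : ∃ n₁ : ℕ, ∀ (n : ℕ) (σ : SN J V (n + n₁)),
    ∃ c : A, Hmap V (fac J (Nat.le_add_right n n₁)) σ = η V _ (cl J n c)
  lim : ∀ x : limS (SJ J V), ∃ c : A, x = ofA J V c

theorem oneFacts [IsIntegrallyClosed A] (hV : IsCompact (V : Set (Spec (CommRingCat.of A))))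
    (p : PrimeSpectrum A) (hJp : J ≤ p.asIdeal) (hpV : (show Spec (CommRingCat.of A) from p) ∈ V)
    (hT : TowerFacts J (SJ J V)) : OneFacts J V := by
  have hlim := exists_eq_ofA hV p hJp hpV hT
  refine ⟨?_, ?_, hlim⟩
  · obtain ⟨n₀, hn₀⟩ := hT.ker
    refine ⟨n₀, fun n c hc => ?_⟩
    let e : A ≃ₗ[A] limS (SJ J V) := LinearEquiv.ofBijective (ofA J V)
      ⟨ofA_injective hV p hJp hpV, fun x => by
        obtain ⟨c, hc⟩ := hlim x
        exact ⟨c, hc.symm⟩⟩
    have h0 : co (n + n₀) (ofA J V c) = 0 := by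
      rw [co_ofA, η_eq_zero_iff V hV]
      exact hc
    have h1 := mem_smul_top_equiv e (J ^ (n + 1)) c (hn₀ n (ofA J V c) h0)
    rwa [smul_eq_mul, Ideal.mul_top] at h1
  · obtain ⟨n₁, hn₁⟩ := hT.lift
    refine ⟨n₁, fun n σ => ?_⟩
    obtain ⟨x, hx⟩ := hn₁ n σ
    obtain ⟨c, rfl⟩ := hlim x
    exact ⟨c, hx.symm⟩

end Main

end Groth.Agent.LefX.K947.ExtOne
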