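import Groth.Agent.LefX.K947.ExtChi
import Groth.Agent.Algz.K573.Base
import Groth.Agent.Sga2lef.H96.LevelFree

/-!
# Restriction of formal systems to smaller opens of `Spec A`
-/

set_option autoImplicit false
universe u

open CategoryTheory CategoryTheory.Limits AlgebraicGeometry Opposite TopologicalSpace

namespace Groth.Agent.LefX.K947.ExtRes

open Groth.Agent.FormalB.ModPow Groth.Agent.FormalB.PuncTheta Groth.Agent.FormalB.PuncTheta2
  Groth.Agent.LefX.K947.ExtSec Groth.Agent.LefX.K947.ExtTower Groth.Agent.LefX.K947.ExtOne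
  Groth.Agent.LefX.K947.ExtLocal Groth.Agent.LefX.K947.ExtChi

section Free

variable {A : Type u} [CommRing A] {X Y : Scheme.{u}} [X.Over (Spec (CommRingCat.of A))]
  [Y.Over (Spec (CommRingCat.of A))] (f : X ⟶ Y) [IsOpenImmersion f]

theorem isFinLocFreeMod_iso {I : Ideal A} {n : ℕ} {M N : Y.Modules} (e : M ≅ N)
    (hM : Formal2.IsFinLocFreeMod I n M) : Formal2.IsFinLocFreeMod I n N := by
  intro x
  obtain ⟨V, r, hx, ⟨φ⟩⟩ := hM x
  exact ⟨V, r, hx, ⟨(Scheme.Modules.restrictFunctor V.ι).mapIso e.symm ≪≫ φ⟩⟩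

/-- Restriction to `f⁻¹(W)` of a restriction. -/
noncomputable def resRes (W : Y.Opens) :
    Scheme.Modules.restrictFunctor f ⋙ Scheme.Modules.restrictFunctor (f ⁻¹ᵁ W).ι ≅
      Scheme.Modules.restrictFunctor W.ι ⋙ Scheme.Modules.restrictFunctor (f ∣_ W) :=
  (Scheme.Modules.restrictFunctorComp (f ⁻¹ᵁ W).ι f).symm ≪≫
    Scheme.Modules.restrictFunctorCongr (morphismRestrict_ι f W).symm ≪≫
    Scheme.Modules.restrictFunctorComp (f ∣_ W) W.ι

theorem isFinLocFreeMod_restrict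
    (hf : f ≫ (Y ↘ Spec (CommRingCat.of A)) = X ↘ Spec (CommRingCat.of A)) {I : Ideal A} {n : ℕ}
    {M : Y.Modules} (hM : Formal2.IsFinLocFreeMod I n M) :
    Formal2.IsFinLocFreeMod I n ((Scheme.Modules.restrictFunctor f).obj M) := by
  intro x
  obtain ⟨W, r, hx, ⟨φ⟩⟩ := hM (f x)
  have h1 := K573.Base.restrict_isModPow f hf (isModPow_modPowπ I n (FlatMod.freeMod Y r))
  have h2 := (isModPow_modPowπ I n (FlatMod.freeMod X r)).iso_comp
    (Groth.Agent.Sga2lef.H96.LevelFree.freeModRestrict f r).hom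
  obtain ⟨e, -, -⟩ := h1.exists_iso h2
  refine ⟨f ⁻¹ᵁ W, r, hx, ⟨(resRes f W).app M ≪≫
    (Scheme.Modules.restrictFunctor (f ∣_ W)).mapIso φ ≪≫
    ((resRes f W).app (Formal.modPow I n (FlatMod.freeMod Y r))).symm ≪≫
    (Scheme.Modules.restrictFunctor (f ⁻¹ᵁ W).ι).mapIso e⟩⟩

end Free

section Spec

variable {A : Type u} [CommRing A] {U V : (Spec (CommRingCat.of A)).Opens} (h : V ≤ U)

/-- the inclusion -/
noncomputable abbrev jVU : (V : Scheme.{u}) ⟶ (U : Scheme.{u}) := (Spec (CommRingCat.of A)).homOfLE h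

theorem jVU_over : jVU h ≫ ((U : Scheme.{u}) ↘ Spec (CommRingCat.of A)) =
    (V : Scheme.{u}) ↘ Spec (CommRingCat.of A) :=
  (Spec (CommRingCat.of A)).homOfLE_ι h

/-- `M~|_V` is the restriction of `M~|_U`. -/
noncomputable def thetaRes : Theta V ≅ Theta U ⋙ Scheme.Modules.restrictFunctor (jVU h) :=
  Functor.isoWhiskerLeft (tilde.functor (CommRingCat.of A))
    (Scheme.Modules.restrictFunctorCongr ((Spec (CommRingCat.of A)).homOfLE_ι h).symm ≪≫
      Scheme.Modules.restrictFunctorComp (jVU h) U.ι)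

/-- The system on `V` attached to the sections over `U` is the restriction. -/
noncomputable def sysIso (hU : IsCompact (U : Set (Spec (CommRingCat.of A))))
    (G : ℕᵒᵖ ⥤ (U : Scheme.{u}).Modules) (hqc : ∀ n : ℕ, Coh.IsQCoh (G.obj (op n))) :
    PP G ⋙ Theta V ≅ G ⋙ Scheme.Modules.restrictFunctor (jVU h) :=
  Functor.isoWhiskerLeft (PP G) (thetaRes h) ≪≫
    Functor.isoWhiskerRight (NatIso.ofComponents (fun n => @asIso _ _ _ _ ((adj U).counit.app (G.obj n))
      (isIso_counit U hU _ (hqc n.unop)))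
      (fun f => (adj U).counit.naturality (G.map f)) : PP G ⋙ Theta U ≅ G)
      (Scheme.Modules.restrictFunctor (jVU h))

variable {J : Ideal A} {G : ℕᵒᵖ ⥤ (U : Scheme.{u}).Modules}

include h in
theorem isFormal_res (hU : IsCompact (U : Set (Spec (CommRingCat.of A))))
    (hG : IsFormal J G) (hqc : ∀ n : ℕ, Coh.IsQCoh (G.obj (op n))) :
    IsFormal J (PP G ⋙ Theta V) :=
  K573.Base.isFormal_iso (sysIso h hU G hqc).symm (K573.Base.restrict_isFormal (jVU h) (jVU_over h) hG)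

include h in
theorem isCoh_res (hU : IsCompact (U : Set (Spec (CommRingCat.of A))))
    (hcoh : ∀ n : ℕ, Coh.IsCoh (G.obj (op n))) (n : ℕ) : Coh.IsCoh ((PP G ⋙ Theta V).obj (op n)) := by
  have hq := (hcoh n).1
  exact K573.Base.isCoh_iso ((sysIso h hU G (fun n => (hcoh n).1)).app (op n)).symm
    ⟨(inferInstance : Coh.IsQCoh ((G.obj (op n)).restrict (jVU h))),
      Groth.Agent.CohqB.FiniteType.IsFT.restrict (hcoh n).2 (jVU h)⟩

include h in
theorem isFinLocFreeMod_res (hU : IsCompact (U : Set (Spec (CommRingCat.of A))))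
    (hqc : ∀ n : ℕ, Coh.IsQCoh (G.obj (op n)))
    (hfree : ∀ n : ℕ, Formal2.IsFinLocFreeMod J (n + 1) (G.obj (op n))) (n : ℕ) :
    Formal2.IsFinLocFreeMod J (n + 1) ((PP G ⋙ Theta V).obj (op n)) :=
  isFinLocFreeMod_iso ((sysIso h hU G hqc).app (op n)).symm
    (isFinLocFreeMod_restrict (jVU h) (jVU_over h) (hfree n))

end Spec

end Groth.Agent.LefX.K947.ExtRes
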