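import Groth.Agent.FormalB.PuncTheta2

/-!
# Sections of `M~` over an open of `Spec A`, up to torsion

`U` a quasi-compact open of `Spec A`, `H_U(M) = Γ(U, M~)` with its map `M → H_U(M)`: the kernel and the cokernel
are torsion off the complement of `U`, and `H_U(M)` has no such torsion; maps into sections over `U` extend
uniquely along maps with torsion kernel and cokernel.
-/

set_option autoImplicit false
universe u

open CategoryTheory CategoryTheory.Limits AlgebraicGeometry Opposite TopologicalSpace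

namespace Groth.Agent.LefX.K947.ExtSec

open Groth.Agent.FormalB.ModPow Groth.Agent.FormalB.PuncTheta Groth.Agent.FormalB.PuncTheta2

variable {A : Type u} [CommRing A] (U : (Spec (CommRingCat.of A)).Opens)

/-- torsion elements off the complement of `U` -/
def IsTors {Q : Type u} [AddCommGroup Q] [Module A Q] (q : Q) : Prop :=
  ∀ g : A, D g ≤ U → ∃ k : ℕ, g ^ k • q = 0

section

variable {U} {Q Q' : Type u} [AddCommGroup Q] [Module A Q] [AddCommGroup Q'] [Module A Q']

theorem IsTors.map {q : Q} (h : IsTors U q) (f : Q →ₗ[A] Q') : IsTors U (f q) := by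
  intro g hg
  obtain ⟨k, hk⟩ := h g hg
  exact ⟨k, by rw [← map_smul, hk, map_zero]⟩

theorem IsTors.mono {V : (Spec (CommRingCat.of A)).Opens} (hV : V ≤ U) {q : Q} (h : IsTors U q) :
    IsTors V q := fun g hg => h g (hg.trans hV)

theorem isTors_zero : IsTors U (0 : Q) := fun _ _ => ⟨0, smul_zero _⟩

theorem IsTors.add {q q' : Q} (h : IsTors U q) (h' : IsTors U q') : IsTors U (q + q') := by
  intro g hg
  obtain ⟨k, hk⟩ := h g hg
  obtain ⟨k', hk'⟩ := h' g hg
  refine ⟨k + k', ?_⟩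
  have h1 : g ^ (k + k') • q = 0 := by rw [pow_add, mul_comm, mul_smul, hk, smul_zero]
  have h2 : g ^ (k + k') • q' = 0 := by rw [pow_add, mul_smul, hk', smul_zero]
  rw [smul_add, h1, h2, add_zero]

theorem IsTors.smul {q : Q} (h : IsTors U q) (a : A) : IsTors U (a • q) := by
  intro g hg
  obtain ⟨k, hk⟩ := h g hg
  exact ⟨k, by rw [smul_comm, hk, smul_zero]⟩

theorem IsTors.neg {q : Q} (h : IsTors U q) : IsTors U (-q) := by
  have := h.smul (-1)
  rwa [neg_smul, one_smul] at this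

theorem IsTors.sub {q q' : Q} (h : IsTors U q) (h' : IsTors U q') : IsTors U (q - q') := by
  rw [sub_eq_add_neg]
  exact h.add h'.neg

theorem isTors_of_isTorsOn (h : IsTorsOn U Q) (q : Q) : IsTors U q := fun g hg => h g hg q

theorem isTorsOn_of_isTors (h : ∀ q : Q, IsTors U q) : IsTorsOn U Q := fun g hg q => h q g hg

theorem isTorsOn_mono {V : (Spec (CommRingCat.of A)).Opens} (hV : V ≤ U) (h : IsTorsOn U Q) :
    IsTorsOn V Q := fun g hg => h g (hg.trans hV)

/-- Torsion can be checked locally. -/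
theorem isTors_of_forall_mem (q : Q) (h : ∀ x ∈ U, ∃ g : A, x ∈ D g ∧ g • q = 0) : IsTors U q := by
  have h1 : IsTorsOn U (Submodule.span A {q}) := by
    refine isTorsOn_of_forall_mem U fun x hx => ?_
    obtain ⟨g, hxg, hg⟩ := h x hx
    refine ⟨g, hxg, fun y => ⟨1, ?_⟩⟩
    obtain ⟨a, ha⟩ := Submodule.mem_span_singleton.1 y.2
    apply Subtype.ext
    change g ^ 1 • y.1 = 0
    rw [pow_one, ← ha, smul_comm, hg, smul_zero]
  intro g hg
  obtain ⟨k, hk⟩ := h1 g hg ⟨q, Submodule.mem_span_singleton_self q⟩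
  exact ⟨k, congrArg Subtype.val hk⟩

/-- A submodule containing locally a multiple. -/
theorem isTors_mk_of_forall_mem (N : Submodule A Q) (q : Q)
    (h : ∀ x ∈ U, ∃ g : A, x ∈ D g ∧ g • q ∈ N) : IsTors U (Submodule.Quotient.mk (p := N) q) := by
  refine isTors_of_forall_mem _ fun x hx => ?_
  obtain ⟨g, hxg, hg⟩ := h x hx
  refine ⟨g, hxg, ?_⟩
  rw [← Submodule.Quotient.mk_smul, Submodule.Quotient.mk_eq_zero]
  exact hg

theorem isTors_mk_iff (N : Submodule A Q) (q : Q) : IsTors U (Submodule.Quotient.mk (p := N) q) ↔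
    ∀ g : A, D g ≤ U → ∃ k : ℕ, g ^ k • q ∈ N := by
  constructor
  · intro h g hg
    obtain ⟨k, hk⟩ := h g hg
    rw [← Submodule.Quotient.mk_smul, Submodule.Quotient.mk_eq_zero] at hk
    exact ⟨k, hk⟩
  · intro h g hg
    obtain ⟨k, hk⟩ := h g hg
    refine ⟨k, ?_⟩
    rw [← Submodule.Quotient.mk_smul, Submodule.Quotient.mk_eq_zero]
    exact hk

end

/-- A linear map as a morphism. -/
def mkHom {M : Type u} [AddCommGroup M] [Module A M] {P : ModuleCat.{u} A} (f : M →ₗ[A] P) :
    ModuleCat.of A M ⟶ P := ModuleCat.ofHom f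

/-- Sections over `U` have no torsion. -/
theorem eq_zero_of_isTors {F : (U : Scheme.{u}).Modules} (y : (Gam U).obj F) (h : IsTors U y) :
    y = 0 := by
  let N : Submodule A ((Gam U).obj F) := Submodule.span A {y}
  have h1 : IsTorsOn U N := by
    intro g hg q
    obtain ⟨a, ha⟩ := Submodule.mem_span_singleton.1 q.2
    obtain ⟨k, hk⟩ := h g hg
    refine ⟨k, Subtype.ext ?_⟩
    change g ^ k • q.1 = 0
    rw [← ha, smul_comm, hk, smul_zero]
  have h2 : IsZero ((Theta U).obj (ModuleCat.of A N)) := (isZero_theta_iff U N).2 h1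
  have h3 : ((adj U).homEquiv _ _).symm (subHom N) = 0 := h2.eq_of_src _ _
  have h4 : subHom N = 0 := by
    rw [← ((adj U).homEquiv _ _).apply_symm_apply (subHom N), h3, Adjunction.homEquiv_unit,
      Functor.map_zero, comp_zero]
  exact congrArg (fun t => t.hom (⟨y, Submodule.mem_span_singleton_self y⟩ : N)) h4

theorem eq_of_isTors_sub {F : (U : Scheme.{u}).Modules} (y z : (Gam U).obj F)
    (h : IsTors U (y - z)) : y = z := sub_eq_zero.1 (eq_zero_of_isTors U _ h)

/-- Linear maps into sections over `U` which agree up to torsion. -/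
theorem linearMap_ext {F : (U : Scheme.{u}).Modules} {W X : Type u} [AddCommGroup W] [Module A W]
    [AddCommGroup X] [Module A X] (ψ : W →ₗ[A] X) (hψ : IsTorsOn U (X ⧸ LinearMap.range ψ))
    (χ χ' : X →ₗ[A] (Gam U).obj F) (h : ∀ w, χ (ψ w) = χ' (ψ w)) : χ = χ' := by
  ext x
  refine eq_of_isTors_sub U _ _ fun g hg => ?_
  obtain ⟨k, hk⟩ := (isTors_mk_iff _ x).1 (isTors_of_isTorsOn hψ _) g hg
  obtain ⟨w, hw⟩ := hk
  refine ⟨k, ?_⟩
  rw [smul_sub, ← map_smul, ← map_smul, ← hw, h, sub_self]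

/-- Maps into sections over `U` extend along maps with torsion kernel and cokernel. -/
theorem exists_extend {F : (U : Scheme.{u}).Modules} {W X : Type u} [AddCommGroup W] [Module A W]
    [AddCommGroup X] [Module A X] (ψ : W →ₗ[A] X) (hψ : IsTorsOn U (X ⧸ LinearMap.range ψ))
    (φ : W →ₗ[A] (Gam U).obj F) (h : ∀ w, ψ w = 0 → φ w = 0) :
    ∃ χ : X →ₗ[A] (Gam U).obj F, ∀ w, χ (ψ w) = φ w := by
  let N : Submodule A X := LinearMap.range ψ
  let K : Submodule A W := LinearMap.ker ψ
  let e : (W ⧸ K) ≃ₗ[A] N := ψ.quotKerEquivRange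
  let φ' : N →ₗ[A] (Gam U).obj F := (K.liftQ φ h).comp e.symm.toLinearMap
  have hφ' : ∀ w, φ' ⟨ψ w, ⟨w, rfl⟩⟩ = φ w := by
    intro w
    have h1 : e.symm ⟨ψ w, ⟨w, rfl⟩⟩ = Submodule.Quotient.mk w := by
      rw [LinearEquiv.symm_apply_eq]
      rfl
    change K.liftQ φ h (e.symm ⟨ψ w, ⟨w, rfl⟩⟩) = _
    rw [h1]
    rfl
  have hi : IsIso ((Theta U).map (subHom (P := ModuleCat.of A X) N)) :=
    isIso_theta_subHom U (P := ModuleCat.of A X) N hψ
  let χ : ModuleCat.of A X ⟶ (Gam U).obj F := (adj U).homEquiv _ _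
    (inv ((Theta U).map (subHom (P := ModuleCat.of A X) N)) ≫
      ((adj U).homEquiv _ _).symm (mkHom φ'))
  have hχ : subHom (P := ModuleCat.of A X) N ≫ χ = mkHom φ' := by
    rw [← Adjunction.homEquiv_naturality_left, IsIso.hom_inv_id_assoc, Equiv.apply_symm_apply]
  refine ⟨χ.hom, fun w => ?_⟩
  rw [← hφ' w]
  exact congrArg (fun t => t.hom (⟨ψ w, ⟨w, rfl⟩⟩ : N)) hχ

section Unit

/-- `M → Γ(U, M~)` -/
noncomputable def η (M : Type u) [AddCommGroup M] [Module A M] :
    M →ₗ[A] (Gam U).obj ((Theta U).obj (ModuleCat.of A M)) :=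
  ((adj U).unit.app (ModuleCat.of A M)).hom

/-- `Γ(U, M~) → Γ(U, N~)` -/
noncomputable def Hmap {M N : Type u} [AddCommGroup M] [Module A M] [AddCommGroup N] [Module A N]
    (f : M →ₗ[A] N) : (Gam U).obj ((Theta U).obj (ModuleCat.of A M)) →ₗ[A]
      (Gam U).obj ((Theta U).obj (ModuleCat.of A N)) :=
  ((Gam U).map ((Theta U).map (ModuleCat.ofHom f))).hom

variable {M N P : Type u} [AddCommGroup M] [Module A M] [AddCommGroup N] [Module A N]
  [AddCommGroup P] [Module A P]

theorem Hmap_η (f : M →ₗ[A] N) (m : M) : Hmap U f (η U M m) = η U N (f m) :=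
  (congrArg (fun t => t.hom m) ((adj U).unit.naturality (ModuleCat.ofHom f))).symm

theorem Hmap_comp (f : M →ₗ[A] N) (g : N →ₗ[A] P) (y) :
    Hmap U (g.comp f) y = Hmap U g (Hmap U f y) := by
  have h : (Gam U).map ((Theta U).map (ModuleCat.ofHom (g.comp f))) =
      (Gam U).map ((Theta U).map (ModuleCat.ofHom f)) ≫
        (Gam U).map ((Theta U).map (ModuleCat.ofHom g)) := by
    rw [ModuleCat.ofHom_comp, Functor.map_comp, Functor.map_comp]
  exact congrArg (fun t => t.hom y) h

theorem Hmap_id (y) : Hmap U (LinearMap.id : M →ₗ[A] M) y = y := by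
  have h : (Gam U).map ((Theta U).map (ModuleCat.ofHom (LinearMap.id : M →ₗ[A] M))) = 𝟙 _ := by
    rw [ModuleCat.ofHom_id, CategoryTheory.Functor.map_id, CategoryTheory.Functor.map_id]
  exact congrArg (fun t => t.hom y) h

theorem isQCoh_theta (M : ModuleCat.{u} A) : Coh.IsQCoh ((Theta U).obj M) :=
  (inferInstance : Coh.IsQCoh ((tilde (R := CommRingCat.of A) M).restrict U.ι))

theorem isIso_theta_unit (hU : IsCompact (U : Set (Spec (CommRingCat.of A)))) (M : ModuleCat.{u} A) :
    IsIso ((Theta U).map ((adj U).unit.app M)) := by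
  have h1 := isIso_counit U hU ((Theta U).obj M) (isQCoh_theta U M)
  have h2 := (adj U).left_triangle_components M
  have h3 : IsIso ((Theta U).map ((adj U).unit.app M) ≫ (adj U).counit.app ((Theta U).obj M)) := by
    rw [h2]; infer_instance
  exact IsIso.of_isIso_comp_right _ ((adj U).counit.app ((Theta U).obj M))

theorem isTorsOn_ker_η (hU : IsCompact (U : Set (Spec (CommRingCat.of A)))) :
    IsTorsOn U (LinearMap.ker (η U M)) :=
  ((isIso_thetaMap_iff U (η U M)).1 (isIso_theta_unit U hU (ModuleCat.of A M))).1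

theorem isTorsOn_coker_η (hU : IsCompact (U : Set (Spec (CommRingCat.of A)))) :
    IsTorsOn U (((Gam U).obj ((Theta U).obj (ModuleCat.of A M)) : Type u) ⧸ LinearMap.range (η U M)) :=
  ((isIso_thetaMap_iff U (η U M)).1 (isIso_theta_unit U hU (ModuleCat.of A M))).2

theorem η_eq_zero_iff (hU : IsCompact (U : Set (Spec (CommRingCat.of A)))) (m : M) :
    η U M m = 0 ↔ IsTors U m := by
  constructor
  · intro h g hg
    obtain ⟨k, hk⟩ := isTorsOn_ker_η (M := M) U hU g hg ⟨m, h⟩
    exact ⟨k, congrArg Subtype.val hk⟩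
  · intro h
    exact eq_zero_of_isTors U _ (h.map _)

theorem exists_η (hU : IsCompact (U : Set (Spec (CommRingCat.of A)))) (g : A) (hg : D g ≤ U)
    (y : (Gam U).obj ((Theta U).obj (ModuleCat.of A M))) : ∃ (k : ℕ) (m : M), η U M m = g ^ k • y := by
  obtain ⟨k, hk⟩ := (isTors_mk_iff _ y).1 (isTors_of_isTorsOn (isTorsOn_coker_η U hU) _) g hg
  obtain ⟨m, hm⟩ := hk
  exact ⟨k, m, hm⟩

/-- `Γ(U, N~) = Γ(U, M~)` for `N ⊆ M` with torsion quotient. -/
theorem Hmap_surjective (f : M →ₗ[A] N) (h1 : IsTorsOn U (LinearMap.ker f))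
    (h2 : IsTorsOn U (N ⧸ LinearMap.range f)) : Function.Bijective (Hmap U f) := by
  have h3 : IsIso (thetaMap U f) := (isIso_thetaMap_iff U f).2 ⟨h1, h2⟩
  have h4 : IsIso ((Gam U).map (thetaMap U f)) := inferInstance
  exact ConcreteCategory.bijective_of_isIso ((Gam U).map (thetaMap U f))

end Unit

end Groth.Agent.LefX.K947.ExtSec
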