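import Groth.Agent.LefX.K947.ExtRes
import Groth.Agent.LefX.K947.ExtAlgz
import Groth.Agent.LefX.K177.Algebraize

/-!
# Algebraization on `Spec A - V(𝔞)` from the depth of `gr_J(A)` off `V(𝔠)`, `𝔠 ≤ 𝔞`
-/

set_option autoImplicit false
universe u

open CategoryTheory CategoryTheory.Limits AlgebraicGeometry Opposite TopologicalSpace

namespace Groth.Agent.LefX.K947.ExtSys

open Groth.Agent.FormalB.ModPow Groth.Agent.FormalB.PuncTheta Groth.Agent.FormalB.PuncTheta2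
  Groth.Agent.FormalB.PrincTower
  Groth.Agent.LefX.K947.ExtSec Groth.Agent.LefX.K947.ExtTower Groth.Agent.LefX.K947.ExtOne
  Groth.Agent.LefX.K947.ExtLocal Groth.Agent.LefX.K947.ExtChi Groth.Agent.LefX.K947.ExtRes

variable {A : Type u} [CommRing A] [IsNoetherianRing A] {J 𝔞 𝔠 : Ideal A}

theorem isCompact_punc (𝔠 : Ideal A) :
    IsCompact (LocCoh.puncturedOpen A 𝔠 : Set (Spec (CommRingCat.of A))) :=
  Groth.Agent.FormalA.InjSec.isCompact_opens _

omit [IsNoetherianRing A] in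
theorem punc_mono (hle : 𝔠 ≤ 𝔞) : LocCoh.puncturedOpen A 𝔠 ≤ LocCoh.puncturedOpen A 𝔞 := by
  intro x hx h
  exact hx (show x ∈ PrimeSpectrum.zeroLocus (𝔠 : Set A) from
    PrimeSpectrum.zeroLocus_anti_mono (show (𝔠 : Set A) ⊆ (𝔞 : Set A) from hle) h)

omit [IsNoetherianRing A] in
/-- Elements of `𝔞` give basic opens of the complement of `V(𝔞)`. -/
theorem D_le {b : A} (hb : b ∈ 𝔞) : D b ≤ LocCoh.puncturedOpen A 𝔞 := fun _ hx h => hx (h hb)

/-- The facts on the towers from the depth of `gr_J(A)`. -/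
theorem towerFacts_of_depth [IsPrecomplete J A] (R : Type u) [CommRing R] [IsRegularRing R] (π : R →+* A)
    (hπ : Function.Surjective π)
    (hD : K177.GrDepth.DepthHyp (reesAlgebra J ⧸ J.map (algebraMap A (reesAlgebra J)))
      (𝔠.map (algebraMap A (reesAlgebra J ⧸ J.map (algebraMap A (reesAlgebra J))))))
    {G : ℕᵒᵖ ⥤ (↑(LocCoh.puncturedOpen A 𝔠) : Scheme.{u}).Modules}
    (hG : IsFormal J G) (hcoh : ∀ n : ℕ, Coh.IsCoh (G.obj (op n)))
    (hfree : ∀ n : ℕ, Formal2.IsFinLocFreeMod J (n + 1) (G.obj (op n))) :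
    TowerFacts J (G ⋙ Gam (LocCoh.puncturedOpen A 𝔠)) := by
  obtain ⟨s, w, hw⟩ := Submodule.fg_iff_exists_fin_generating_family.1 (IsNoetherian.noetherian J)
  have hmem : ∀ i, w i ∈ J := fun i => hw ▸ Submodule.subset_span ⟨i, rfl⟩
  obtain ⟨h0, h1⟩ := K177.GrDepth.good_of_depth hG hcoh hfree (fun i => ⟨w i, hmem i⟩) hw R π hπ hD
  exact towerFacts_of_good hG _ hw h0 h1

/-- Formal functions. -/
theorem oneFacts_of_depth [IsDomain A] [IsIntegrallyClosed A] [IsPrecomplete J A] (R : Type u)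
    [CommRing R] [IsRegularRing R] (π : R →+* A) (hπ : Function.Surjective π)
    (hD : K177.GrDepth.DepthHyp (reesAlgebra J ⧸ J.map (algebraMap A (reesAlgebra J)))
      (𝔠.map (algebraMap A (reesAlgebra J ⧸ J.map (algebraMap A (reesAlgebra J))))))
    (p : PrimeSpectrum A) (hJp : J ≤ p.asIdeal) (hcp : ¬ 𝔠 ≤ p.asIdeal) :
    OneFacts J (LocCoh.puncturedOpen A 𝔠) := by
  have h1 := towerFacts_of_depth (G := BJ J ⋙ Theta (LocCoh.puncturedOpen A 𝔠)) R π hπ hD
    (isFormal_BJ J _) (isCoh_BJ J _) (isFinLocFreeMod_BJ J _)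
  have h2 : TowerFacts J (SJ J (LocCoh.puncturedOpen A 𝔠)) :=
    h1.iso (Functor.associator (BJ J) (Theta (LocCoh.puncturedOpen A 𝔠))
      (Gam (LocCoh.puncturedOpen A 𝔠)))
  exact oneFacts (isCompact_punc 𝔠) p hJp hcp h2

/-- Algebraization of formal systems. -/
theorem algebraize [IsPrecomplete J A] (hle : 𝔠 ≤ 𝔞) (R : Type u) [CommRing R] [IsRegularRing R]
    (π : R →+* A) (hπ : Function.Surjective π)
    (hD : K177.GrDepth.DepthHyp (reesAlgebra J ⧸ J.map (algebraMap A (reesAlgebra J)))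
      (𝔠.map (algebraMap A (reesAlgebra J ⧸ J.map (algebraMap A (reesAlgebra J))))))
    (hO : OneFacts J (LocCoh.puncturedOpen A 𝔠))
    (G : ℕᵒᵖ ⥤ (↑(LocCoh.puncturedOpen A 𝔞) : Scheme.{u}).Modules) (hG : Formal.IsCohFormal J G)
    (hfree : ∀ n : ℕ, Formal2.IsFinLocFreeMod J (n + 1) (G.obj (op n))) :
    ∃ F : (↑(LocCoh.puncturedOpen A 𝔞) : Scheme.{u}).Modules, Coh.IsCoh F ∧
      Nonempty (Formal.completion J F ≅ G) := by
  obtain ⟨hcoh, hfor⟩ := (Groth.Agent.FormalB.ModPow.isCohFormal_iff _ G).1 hG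
  have hVU : LocCoh.puncturedOpen A 𝔠 ≤ LocCoh.puncturedOpen A 𝔞 := punc_mono hle
  have hqc : ∀ n : ℕ, Coh.IsQCoh (G.obj (op n)) := fun n => (hcoh n).1
  have h1 := towerFacts_of_depth (G := PP G ⋙ Theta (LocCoh.puncturedOpen A 𝔠)) R π hπ hD
    (isFormal_res hVU (isCompact_punc 𝔞) hfor hqc) (isCoh_res hVU (isCompact_punc 𝔞) hcoh)
    (isFinLocFreeMod_res hVU (isCompact_punc 𝔞) hqc hfree)
  have hT : TowerFacts J (QV (LocCoh.puncturedOpen A 𝔠) G) :=
    h1.iso (Functor.associator (PP G) (Theta (LocCoh.puncturedOpen A 𝔠))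
      (Gam (LocCoh.puncturedOpen A 𝔠)))
  obtain ⟨χ, h1, h2, h3⟩ := ExtChi.main hVU (isCompact_punc 𝔞) (isCompact_punc 𝔠) hfor hcoh hfree hO hT
  exact ExtAlgz.algebraize_of_maps (LocCoh.puncturedOpen A 𝔞) J 𝔞 (Groth.Agent.S0822.not_le 𝔞)
    (isCompact_punc 𝔞) G hfor hqc (ModuleCat.of A (limS (QV (LocCoh.puncturedOpen A 𝔠) G))) hT.fin
    (fun n => mkHom (χ n)) (fun n => ModuleCat.hom_ext (LinearMap.ext fun x => h1 n x)) h2
    (fun n y b hb => h3 n y b (D_le hb))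

open Groth.Agent.Sga2lef.H96.ModSysFormal Groth.Agent.Sga2lef.H96.ModSysPush in
/-- Algebraization of levelwise finite locally free systems on the completion. -/
theorem algebraize_modSys [IsPrecomplete J A] (hle : 𝔠 ≤ 𝔞) (R : Type u) [CommRing R] [IsRegularRing R]
    (π : R →+* A) (hπ : Function.Surjective π)
    (hD : K177.GrDepth.DepthHyp (reesAlgebra J ⧸ J.map (algebraMap A (reesAlgebra J)))
      (𝔠.map (algebraMap A (reesAlgebra J ⧸ J.map (algebraMap A (reesAlgebra J))))))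
    (hO : OneFacts J (LocCoh.puncturedOpen A 𝔠))
    (U : (Spec (CommRingCat.of A)).Opens) (hU : U = LocCoh.puncturedOpen A 𝔞)
    (𝔐 : FSch.ModSys (FSch.completionAlong (↑U : Scheme.{u})
      ((Spec.map (CommRingCat.ofHom (Ideal.Quotient.mk J))).ker.comap U.ι)))
    (hlf : LefX.LevelwiseFinLocFree 𝔐) :
    ∃ F : (↑U : Scheme.{u}).Modules, Coh.IsCoh F ∧
      Nonempty (FSch.completionMod ((Spec.map (CommRingCat.ofHom (Ideal.Quotient.mk
        J))).ker.comap U.ι) F ≅ 𝔐) := by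
  subst hU
  have hgen := isGenBy_comap (X := (↑(LocCoh.puncturedOpen A 𝔞) : Scheme.{u})) J
  have hcoh : 𝔐.IsCoh := fun n => Groth.Agent.PerfA.CohSerre.isCoh_of_isFinLocFree (hlf n)
  obtain ⟨F, hF, he⟩ := algebraize hle R π hπ hD hO (toSys 𝔐) (isCohFormal_toSys hgen 𝔐 hcoh)
    (Groth.Agent.Sga2lef.H96.LevelFree.isFinLocFreeMod_toSys hgen 𝔐 hlf)
  exact ⟨F, hF, nonempty_iso hgen 𝔐 F hF.1 he⟩

/-- **The second half of the effective Lefschetz condition.** -/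
theorem second_half [IsPrecomplete J A] (hle : 𝔠 ≤ 𝔞) (R : Type u) [CommRing R] [IsRegularRing R]
    (π : R →+* A) (hπ : Function.Surjective π)
    (hD : K177.GrDepth.DepthHyp (reesAlgebra J ⧸ J.map (algebraMap A (reesAlgebra J)))
      (𝔠.map (algebraMap A (reesAlgebra J ⧸ J.map (algebraMap A (reesAlgebra J))))))
    (hO : OneFacts J (LocCoh.puncturedOpen A 𝔠))
    (U : (Spec (CommRingCat.of A)).Opens) (hU : U = LocCoh.puncturedOpen A 𝔞)
    (𝔐 : FSch.ModSys (FSch.completionAlong (↑U : Scheme.{u})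
      ((Spec.map (CommRingCat.ofHom (Ideal.Quotient.mk J))).ker.comap U.ι)))
    (hlf : LefX.LevelwiseFinLocFree 𝔐) :
    ∃ (W : (↑U : Scheme.{u}).Opens) (E : (W : Scheme.{u}).Modules),
      (((Spec.map (CommRingCat.ofHom (Ideal.Quotient.mk J))).ker.comap U.ι).support :
        Set (↑U : Scheme.{u})) ⊆ (W : Set (↑U : Scheme.{u})) ∧
      FlatMod.IsFinLocFree E ∧
      Nonempty (FSch.completionMod ((Spec.map (CommRingCat.ofHom (Ideal.Quotient.mk J))).ker.comap U.ι)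
        ((Scheme.Modules.pushforward W.ι).obj E) ≅ 𝔐) := by
  obtain ⟨F, hF, e⟩ := algebraize_modSys hle R π hπ hD hO U hU 𝔐 hlf
  exact K177.Algebraize.exists_nhd _ 𝔐 hlf F hF e

end Groth.Agent.LefX.K947.ExtSys
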