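import Groth.Agent.LefX.K177.GrDepth
import Groth.Agent.LefX.K947.ExtSec

/-!
# The limit of the sections of a formal system

`G` a formal system for `J` on `V = Spec A - V(𝔠)` whose graded pieces have finite and eventually generated
cohomology in degrees `0`, `1`.  Then `lim Γ(V, G_n)` is finite, its filtration is `J`-adic up to a shift, and
the images of `Γ(V, G_{n+n₁})` in `Γ(V, G_n)` come from the limit (`towerFacts_of_good`).
-/

set_option autoImplicit false
universe u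

open CategoryTheory CategoryTheory.Limits AlgebraicGeometry Opposite TopologicalSpace

namespace Groth.Agent.LefX.K947.ExtTower

open Groth.Agent.FormalB.HMod Groth.Agent.FormalB.ModPow Groth.Agent.FormalB.PrincTower
  Groth.Agent.FormalB.PuncTheta Groth.Agent.FormalB.PuncTheta2 Groth.Agent.FormalB.PuncSec
  Groth.Agent.Sga2lef.H100.GrSys Groth.Agent.Sga2lef.H100 Groth.Agent.LefX.K947.ExtSec

section Lim

variable {A : Type u} [CommRing A]

/-- The limit of a system of modules. -/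
def limS (Q : ℕᵒᵖ ⥤ ModuleCat.{u} A) : Submodule A (∀ n : ℕ, Q.obj (op n)) where
  carrier := {x | ∀ n, (Q.map (homOfLE (Nat.le_succ n)).op).hom (x (n + 1)) = x n}
  zero_mem' := fun n => map_zero _
  add_mem' := fun {x y} hx hy n => by
    rw [Pi.add_apply, Pi.add_apply, map_add, hx n, hy n]
  smul_mem' := fun a x hx n => by
    rw [Pi.smul_apply, Pi.smul_apply, map_smul, hx n]

theorem map_comp_apply (Q : ℕᵒᵖ ⥤ ModuleCat.{u} A) {a b c : ℕ} (h : a ≤ b) (h' : b ≤ c)
    (y : Q.obj (op c)) : (Q.map (homOfLE h).op).hom ((Q.map (homOfLE h').op).hom y) =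
      (Q.map (homOfLE (h.trans h')).op).hom y := by
  have : Q.map (homOfLE (h.trans h')).op = Q.map (homOfLE h').op ≫ Q.map (homOfLE h).op := by
    rw [← Q.map_comp]; rfl
  rw [this]
  rfl

theorem map_self_apply (Q : ℕᵒᵖ ⥤ ModuleCat.{u} A) {a : ℕ} (h : a ≤ a) (y : Q.obj (op a)) :
    (Q.map (homOfLE h).op).hom y = y := by
  have : Q.map (homOfLE h).op = 𝟙 _ := Q.map_id _
  rw [this]
  rfl

theorem limS_map {Q : ℕᵒᵖ ⥤ ModuleCat.{u} A} (x : limS Q) {n m : ℕ} (h : n ≤ m) :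
    (Q.map (homOfLE h).op).hom (x.1 m) = x.1 n := by
  induction m, h using Nat.le_induction with
  | base => exact map_self_apply Q _ _
  | succ m hm ih => rw [← map_comp_apply Q hm (Nat.le_succ m), x.2 m, ih]

/-- The facts on the limit of the tower. -/
structure TowerFacts (J : Ideal A) (Q : ℕᵒᵖ ⥤ ModuleCat.{u} A) : Prop where
  fin : Module.Finite A (limS Q)
  ker : ∃ n₀ : ℕ, ∀ (n : ℕ) (x : limS Q), x.1 (n + n₀) = 0 →
    x ∈ (J ^ (n + 1) • (⊤ : Submodule A (limS Q)))
  lift : ∃ n₁ : ℕ, ∀ (n : ℕ) (q : Q.obj (op (n + n₁))), ∃ x : limS Q,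
    x.1 n = (Q.map (homOfLE (Nat.le_add_right n n₁)).op).hom q

end Lim

section Iso

variable {A : Type u} [CommRing A]

/-- Isomorphic systems have isomorphic limits. -/
noncomputable def limSEquiv {P Q : ℕᵒᵖ ⥤ ModuleCat.{u} A} (e : P ≅ Q) : limS P ≃ₗ[A] limS Q where
  toFun x := ⟨fun n => (e.hom.app (op n)).hom (x.1 n), fun n => by
    have h := congrArg (fun t => t.hom (x.1 (n + 1))) (e.hom.naturality (homOfLE (Nat.le_succ n)).op)
    exact h.symm.trans (congrArg _ (x.2 n))⟩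
  map_add' x y := Subtype.ext (funext fun n => map_add _ _ _)
  map_smul' a x := Subtype.ext (funext fun n => map_smul _ _ _)
  invFun x := ⟨fun n => (e.inv.app (op n)).hom (x.1 n), fun n => by
    have h := congrArg (fun t => t.hom (x.1 (n + 1))) (e.inv.naturality (homOfLE (Nat.le_succ n)).op)
    exact h.symm.trans (congrArg _ (x.2 n))⟩
  left_inv x := Subtype.ext (funext fun n =>
    congrArg (fun t => t.hom (x.1 n)) (e.hom_inv_id_app (op n)))
  right_inv x := Subtype.ext (funext fun n =>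
    congrArg (fun t => t.hom (x.1 n)) (e.inv_hom_id_app (op n)))

theorem mem_smul_top_equiv {M N : Type*} [AddCommGroup M] [Module A M] [AddCommGroup N] [Module A N]
    (e : M ≃ₗ[A] N) (I : Ideal A) (x : M) (h : e x ∈ (I • (⊤ : Submodule A N))) :
    x ∈ (I • (⊤ : Submodule A M)) := by
  have h1 : (I • (⊤ : Submodule A N)).map e.symm.toLinearMap ≤ I • (⊤ : Submodule A M) := by
    rw [Submodule.map_smul'']
    exact Submodule.smul_mono le_rfl le_top
  have h2 := h1 (Submodule.mem_map_of_mem h)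
  simpa using h2

theorem TowerFacts.iso {P Q : ℕᵒᵖ ⥤ ModuleCat.{u} A} (e : P ≅ Q) {J : Ideal A} (h : TowerFacts J P) :
    TowerFacts J Q := by
  obtain ⟨hf, ⟨n₀, hk⟩, ⟨n₁, hl⟩⟩ := h
  refine ⟨Module.Finite.equiv (limSEquiv e), ⟨n₀, fun n x hx => ?_⟩, ⟨n₁, fun n q => ?_⟩⟩
  · refine mem_smul_top_equiv (limSEquiv e).symm _ _ (hk n _ ?_)
    change (e.inv.app (op (n + n₀))).hom (x.1 (n + n₀)) = 0
    rw [hx, map_zero]
  · obtain ⟨x, hx⟩ := hl n ((e.inv.app (op (n + n₁))).hom q)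
    refine ⟨limSEquiv e x, ?_⟩
    change (e.hom.app (op n)).hom (x.1 n) = _
    rw [hx]
    have h1 := congrArg (fun t => t.hom ((e.inv.app (op (n + n₁))).hom q))
      (e.hom.naturality (homOfLE (Nat.le_add_right n n₁)).op)
    have h2 : (e.hom.app (op (n + n₁))).hom ((e.inv.app (op (n + n₁))).hom q) = q :=
      congrArg (fun t => t.hom q) (e.inv_hom_id_app (op (n + n₁)))
    exact h1.trans (congrArg _ h2)

end Iso

section Good

variable {A : Type u} [CommRing A] [IsNoetherianRing A] {J 𝔠 : Ideal A}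
  {G : ℕᵒᵖ ⥤ (↑(LocCoh.puncturedOpen A 𝔠) : Scheme.{u}).Modules} (hG : IsFormal J G)

/-- The system of the modules `H^0`. -/
noncomputable abbrev H0 (G : ℕᵒᵖ ⥤ (↑(LocCoh.puncturedOpen A 𝔠) : Scheme.{u}).Modules) :
    ℕᵒᵖ ⥤ ModuleCat.{u} A := G ⋙ HM A (LocCoh.puncturedOpen A 𝔠 : Scheme.{u}) 0

/-- `H^0(V, -) = Γ(V, -)`. -/
noncomputable def H0Iso (G : ℕᵒᵖ ⥤ (↑(LocCoh.puncturedOpen A 𝔠) : Scheme.{u}).Modules) :
    H0 G ≅ G ⋙ Gam (LocCoh.puncturedOpen A 𝔠) :=
  NatIso.ofComponents (fun n => (eLin A (LocCoh.puncturedOpen A 𝔠) (G.obj n)).toModuleIso)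
    (fun f => by
      ext x
      exact eLin_naturality A (LocCoh.puncturedOpen A 𝔠) (G.map f) x)

theorem towerFacts_H0 [IsPrecomplete J A] {r : ℕ} (a : Fin r → J)
    (ha : Ideal.span (Set.range fun i => (a i : A)) = J)
    (h0 : K177.GrSheaf.Good (LocCoh.puncturedOpen A 𝔠) hG a 0)
    (h1 : K177.GrSheaf.Good (LocCoh.puncturedOpen A 𝔠) hG a 1) : TowerFacts J (H0 G) := by
  obtain ⟨f0, N0, g0⟩ := h0
  obtain ⟨f1, N1, g1⟩ := h1
  let T := K177.EAlgebraize.tower hG a (max N0 N1) f0 f1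
    (fun n hn => g0 n ((le_max_left _ _).trans hn)) (fun n hn => g1 n ((le_max_right _ _).trans hn))
  have hprec : IsPrecomplete (Ideal.span (Set.range fun i => (a i : A))) A := by
    rw [ha]; infer_instance
  obtain ⟨hfin, n₀, hn₀⟩ := T.finite_and_ker_le
  obtain ⟨n₁, hn₁, hst⟩ := T.exists_stable
  refine ⟨hfin, ⟨n₀, fun n x hx => ?_⟩, ⟨n₁, fun n q => ?_⟩⟩
  · have h2 := hn₀ (n + 1) x ((T.mem_F_succ (n₀ + n) x).2 (by rw [add_comm]; exact hx))
    rw [ha] at h2
    exact h2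
  · obtain ⟨z, hz, hzq⟩ := GrTower.exists_comp (P := fun n => (HG A G 0 n : Type u)) T.π (n + n₁) q
    obtain ⟨w, hw, hwz⟩ := T.exists_lift n₁ hn₁ hst (n + n₁) z hz
    refine ⟨⟨w, hw⟩, ?_⟩
    change w n = _
    rw [hwz n le_rfl]
    have key : ∀ (m : ℕ) (h : m ≤ n + n₁), z m = ((H0 G).map (homOfLE h).op).hom (z (n + n₁)) := by
      intro m h
      induction h using Nat.decreasingInduction with
      | self => exact (map_self_apply (H0 G) _ _).symm
      | of_succ m hm ih =>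
        rw [← hz m hm, ih]
        exact map_comp_apply (H0 G) (Nat.le_succ m) hm _
    rw [key n (Nat.le_add_right n n₁), hzq]

/-- **The facts on the limit of the sections of a formal system.** -/
theorem towerFacts_of_good [IsPrecomplete J A] {r : ℕ} (a : Fin r → J)
    (ha : Ideal.span (Set.range fun i => (a i : A)) = J)
    (h0 : K177.GrSheaf.Good (LocCoh.puncturedOpen A 𝔠) hG a 0)
    (h1 : K177.GrSheaf.Good (LocCoh.puncturedOpen A 𝔠) hG a 1) :
    TowerFacts J (G ⋙ Gam (LocCoh.puncturedOpen A 𝔠)) :=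
  (towerFacts_H0 hG a ha h0 h1).iso (H0Iso G)

end Good

end Groth.Agent.LefX.K947.ExtTower
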