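import Groth.Agent.Sga2lef.H82.FibDepth
import Groth.Agent.Divis.CartierStalk
import Groth.Agent.Fga.RelCartAlg
import Groth.Agent.Ega4B.DepthBasic

/-!
# Depth of the fibres of a relative effective Cartier divisor

If `X` and the effective Cartier divisor `V(𝓘)` are flat over `S`, the fibre of the divisor at one of its
points has depth one less than the fibre of `X`.
-/

set_option autoImplicit false
universe u
open CategoryTheory CategoryTheory.Limits AlgebraicGeometry IsLocalRing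
open scoped Pointwise

namespace Groth.Agent.LefX.K947.FibCartier

open Groth.Agent.Ega4dB.FiberDepth Groth.Agent.Ega4dB.FiberStalk
open Groth.Agent.Divis.CartierBasic Groth.Agent.Divis.CartierStalk

section Alg

variable {R T : Type u} [CommRing R] [CommRing T]

/-- `(R/J)/t = R/(J + t)`. -/
theorem smul_top_eq (J : Ideal R) (t : R) :
    t • (⊤ : Submodule R (R ⧸ J)) = Submodule.map (Submodule.mkQ J) (J ⊔ Ideal.span {t}) := by
  apply le_antisymm
  · rintro _ ⟨z, -, rfl⟩
    obtain ⟨z, rfl⟩ := Submodule.mkQ_surjective J z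
    refine ⟨t * z, ?_, rfl⟩
    exact Ideal.mem_sup_right (Ideal.mul_mem_right _ _ (Ideal.mem_span_singleton_self t))
  · rw [Submodule.map_le_iff_le_comap]
    refine sup_le (fun z hz => ?_) ?_
    · have h : Submodule.mkQ J z = 0 := (Submodule.Quotient.mk_eq_zero J).2 hz
      rw [Submodule.mem_comap, h]
      exact zero_mem _
    · rw [Ideal.span, Submodule.span_le, Set.singleton_subset_iff]
      refine ⟨Submodule.mkQ J 1, trivial, ?_⟩
      change t • Submodule.mkQ J 1 = Submodule.mkQ J t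
      rw [← map_smul, smul_eq_mul, mul_one]

theorem depth_quotient_add_one [IsLocalRing R] [IsLocalRing T] [IsNoetherianRing R] (J : Ideal R) (t : R) (ht : t ∈ maximalIdeal R)
    (hreg : ∀ z : R, t * z ∈ J → z ∈ J) (ψ : R →+* T) (hψ : Function.Surjective ψ)
    (hker : RingHom.ker ψ = Ideal.span {t}) :
    LocCoh.depth T (T ⧸ J.map ψ) + 1 = LocCoh.depth R (R ⧸ J) := by
  have h1 : IsSMulRegular (R ⧸ J) t := by
    intro a b hab
    obtain ⟨a, rfl⟩ := Ideal.Quotient.mk_surjective a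
    obtain ⟨b, rfl⟩ := Ideal.Quotient.mk_surjective b
    have h2 : Ideal.Quotient.mk J (t * a) = Ideal.Quotient.mk J (t * b) := hab
    rw [Ideal.Quotient.eq, ← mul_sub] at h2
    exact Ideal.Quotient.eq.2 (hreg _ h2)
  rw [← Groth.Agent.Ega4B.DepthBasic.depth_quotSMulTop_add_one (R ⧸ J) t ht h1]
  congr 1
  symm
  let c : R →+* T ⧸ J.map ψ := (Ideal.Quotient.mk _).comp ψ
  have hc : Function.Surjective c := Ideal.Quotient.mk_surjective.comp hψ
  have hkc : RingHom.ker c = J ⊔ Ideal.span {t} := by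
    have h3 : RingHom.ker c = (J.map ψ).comap ψ := by
      rw [← RingHom.comap_ker, Ideal.mk_ker]
    rw [h3, Ideal.comap_map_of_surjective' ψ hψ, hker]
  let e1 : QuotSMulTop t (R ⧸ J) ≃ₗ[R] R ⧸ (J ⊔ Ideal.span {t}) :=
    (Submodule.quotEquivOfEq _ _ (smul_top_eq J t)).trans
      (Submodule.quotientQuotientEquivQuotient J _ le_sup_left)
  let e2 : (R ⧸ (J ⊔ Ideal.span {t})) ≃+* (T ⧸ J.map ψ) :=
    (Ideal.quotEquivOfEq hkc.symm).trans (RingHom.quotientKerEquivOfSurjective hc)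
  refine depth_eq_of_semilinear ψ hψ (e1.toAddEquiv.trans e2.toAddEquiv) ?_
  intro r n
  change e2 (e1 (r • n)) = ψ r • e2 (e1 n)
  rw [map_smul]
  obtain ⟨m, hm⟩ := Ideal.Quotient.mk_surjective (e1 n)
  rw [← hm]
  change e2 (Ideal.Quotient.mk _ (r * m)) = Ideal.Quotient.mk _ (ψ r) * e2 (Ideal.Quotient.mk _ m)
  rw [map_mul, map_mul]
  rfl

end Alg

variable {X S : Scheme.{u}}

/-- Local equation of an effective Cartier divisor at a point of it. -/
theorem exists_gen {𝓘 : X.IdealSheafData} (hD : BlowUp.IsEffCartierIdeal 𝓘) (x : X) :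
    ∃ t : X.presheaf.stalk x, t ∈ nonZeroDivisors (X.presheaf.stalk x) ∧ stalkIdeal 𝓘 x = Ideal.span {t} := by
  obtain ⟨U, hx, t, ht, hI⟩ := hD x
  refine ⟨X.presheaf.germ U.1 x hx t, ?_, ?_⟩
  · let := X.presheaf.algebra_section_stalk (⟨x, hx⟩ : U.1)
    have hloc : IsLocalization.AtPrime (X.presheaf.stalk x) (U.2.primeIdealOf ⟨x, hx⟩).asIdeal :=
      U.2.isLocalization_stalk ⟨x, hx⟩
    exact IsLocalization.map_nonZeroDivisors_le (U.2.primeIdealOf ⟨x, hx⟩).asIdeal.primeCompl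
      (X.presheaf.stalk x) (Submonoid.mem_map_of_mem _ ht)
  · rw [stalkIdeal_eq 𝓘 U hx, hI, Ideal.map_span, Set.image_singleton]

variable (f : X ⟶ S)

theorem depth_fiberStalk_add_one [IsLocallyNoetherian X] {𝓘 : X.IdealSheafData}
    (hD : BlowUp.IsEffCartierIdeal 𝓘) [Flat (𝓘.subschemeι ≫ f)] (y : ↥𝓘.subscheme) :
    LocCoh.depth (CInt.fiberStalk (𝓘.subschemeι ≫ f) y) (CInt.fiberStalk (𝓘.subschemeι ≫ f) y) + 1 =
      LocCoh.depth (CInt.fiberStalk f (𝓘.subschemeι y)) (CInt.fiberStalk f (𝓘.subschemeι y)) := by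
  obtain ⟨t, ht, hst⟩ := exists_gen hD (𝓘.subschemeι y)
  rw [Groth.Agent.Sga2lef.H82.FibDepth.depth_fiberStalk_eq,
    Groth.Agent.Sga2lef.H82.FibDepth.depth_fiberStalk_eq]
  have hsurj := stalkMap_subschemeι_surjective 𝓘 y
  have hker := ker_stalkMap_subschemeι 𝓘 y
  rw [hst] at hker
  have hmap : fibIdeal (𝓘.subschemeι ≫ f) y = (fibIdeal f (𝓘.subschemeι y)).map (𝓘.subschemeι.stalkMap y).hom := by
    rw [fibIdeal, fibIdeal, Ideal.map_map, ← CommRingCat.hom_comp, ← Scheme.Hom.stalkMap_comp]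
    rfl
  have htm : t ∈ maximalIdeal (X.presheaf.stalk (𝓘.subschemeι y)) := by
    have h1 : t ∈ RingHom.ker (𝓘.subschemeι.stalkMap y).hom := by
      rw [hker]; exact Ideal.mem_span_singleton_self t
    exact IsLocalRing.le_maximalIdeal (RingHom.ker_ne_top _) h1
  rw [hmap]
  refine depth_quotient_add_one _ t htm ?_ _ hsurj hker
  let : Algebra (S.presheaf.stalk (f (𝓘.subschemeι y))) (X.presheaf.stalk (𝓘.subschemeι y)) :=
    (f.stalkMap (𝓘.subschemeι y)).hom.toAlgebra
  have hflat : Module.Flat (S.presheaf.stalk (f (𝓘.subschemeι y)))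
      (X.presheaf.stalk (𝓘.subschemeι y) ⧸ Ideal.span {t}) := by
    have h1 : ((𝓘.subschemeι ≫ f).stalkMap y).hom.Flat := Flat.stalkMap _ y
    let e : (X.presheaf.stalk (𝓘.subschemeι y) ⧸ Ideal.span {t}) ≃+* 𝓘.subscheme.presheaf.stalk y :=
      (Ideal.quotEquivOfEq hker.symm).trans (RingHom.quotientKerEquivOfSurjective hsurj)
    let : Algebra (S.presheaf.stalk (f (𝓘.subschemeι y))) (𝓘.subscheme.presheaf.stalk y) :=
      ((𝓘.subschemeι ≫ f).stalkMap y).hom.toAlgebra
    have h2 : Module.Flat (S.presheaf.stalk (f (𝓘.subschemeι y))) (𝓘.subscheme.presheaf.stalk y) := h1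
    refine Module.Flat.of_linearEquiv
      (M := 𝓘.subscheme.presheaf.stalk y) (N := X.presheaf.stalk (𝓘.subschemeι y) ⧸ Ideal.span {t})
      { e with
        map_smul' := ?_ }
    intro a z
    obtain ⟨z, rfl⟩ := Ideal.Quotient.mk_surjective z
    change (𝓘.subschemeι.stalkMap y).hom ((f.stalkMap (𝓘.subschemeι y)).hom a * z) =
      ((𝓘.subschemeι ≫ f).stalkMap y).hom a * (𝓘.subschemeι.stalkMap y).hom z
    rw [map_mul, Scheme.Hom.stalkMap_comp]
    rfl
  intro z hz
  exact Groth.Agent.Fga.RelCartAlg.mem_of_mul_mem t ht (maximalIdeal (S.presheaf.stalk (f (𝓘.subschemeι y)))) z hz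

end Groth.Agent.LefX.K947.FibCartier
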