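import Groth.Agent.Sga2lef.H82.FibDepth
import Groth.Agent.S2951
import Groth.Agent.Sga2.ParaExt
import Groth.Agent.Ega4dA.ParaExt
import Groth.Agent.Ega4dA.LocalRingCrit
import Groth.Agent.Divis.CartierStalk

/-!
# Parafactorial local rings from parafactorial fibres; closed points of fibres
-/

set_option autoImplicit false
universe u
open CategoryTheory CategoryTheory.Limits AlgebraicGeometry IsLocalRing

namespace Groth.Agent.LefX.K947.FibPara

open Groth.Agent.Ega4dB.FiberDepth Groth.Agent.Ega4dB.FiberStalk

variable {X S : Scheme.{u}} (f : X ⟶ S)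

/-- A point is closed in its fibre iff it has no proper specialization in the fibre. -/
theorem isClosed_asFiber_iff (x : X) :
    IsClosed ({f.asFiber x} : Set (f.fiber (f x))) ↔ ∀ z : X, x ⤳ z → f z = f x → z = x := by
  constructor
  · intro h z hz hfz
    have h1 : z ∈ Set.range (f.fiberι (f x)) := by
      rw [f.range_fiberι]; exact hfz
    obtain ⟨z', rfl⟩ := h1
    have h2 : f.asFiber x ⤳ z' := by
      rw [← (f.fiberι (f x)).isEmbedding.toIsInducing.specializes_iff, f.fiberι_asFiber]
      exact hz
    have h3 : z' = f.asFiber x := by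
      have := h2.mem_closed h rfl
      exact this
    rw [h3, f.fiberι_asFiber]
  · intro h
    refine isClosed_of_closure_subset fun z' hz' => ?_
    have h2 : f.asFiber x ⤳ z' := specializes_iff_mem_closure.2 hz'
    rw [← (f.fiberι (f x)).isEmbedding.toIsInducing.specializes_iff, f.fiberι_asFiber] at h2
    have h3 := h _ h2 (Groth.Agent.Sga2lef.H82.FibDepth.f_fiberι f (f x) z')
    apply (f.fiberι (f x)).isEmbedding.injective
    rw [h3, f.fiberι_asFiber]

/-- A point of a closed subscheme which is closed in its fibre is closed in the fibre of the ambient scheme. -/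
theorem isClosed_asFiber_subschemeι (𝓘 : X.IdealSheafData) (y : ↥𝓘.subscheme)
    (hy : IsClosed ({(𝓘.subschemeι ≫ f).asFiber y} : Set ((𝓘.subschemeι ≫ f).fiber ((𝓘.subschemeι ≫ f) y)))) :
    IsClosed ({f.asFiber (𝓘.subschemeι y)} : Set (f.fiber (f (𝓘.subschemeι y)))) := by
  rw [isClosed_asFiber_iff] at hy ⊢
  intro z hz hfz
  have hzs : z ∈ (𝓘.support : Set X) :=
    hz.mem_closed 𝓘.support.isClosed (Groth.Agent.Divis.CartierStalk.subschemeι_mem_support 𝓘 y)
  obtain ⟨y', rfl⟩ := Groth.Agent.Divis.CartierStalk.exists_subscheme_apply_eq 𝓘 hzs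
  rw [Groth.Agent.Divis.CartierStalk.subschemeι_specializes_iff] at hz
  rw [hy y' hz hfz]

/-- Flat local homomorphisms with parafactorial closed fibre of depth `≥ 3`. -/
theorem isParafactorialLocalRing_stalk [Flat f] [IsLocallyNoetherian X] [IsLocallyNoetherian S] (x : X)
    (hd : (3 : ℕ∞) ≤ LocCoh.depth (CInt.fiberStalk f x) (CInt.fiberStalk f x))
    (hpf : ParaF.IsParafactorialLocalRing (CInt.fiberStalk f x)) :
    ParaF.IsParafactorialLocalRing (X.presheaf.stalk x) := by
  refine Groth.Agent.Sga2.ParaExt.isParafactorialLocalRing_of_depth _ ?_ ?_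
  · exact le_trans (by norm_num) (hd.trans (Groth.Agent.Sga2lef.H82.FibDepth.depth_fiberStalk_le f x))
  · let : Algebra (S.presheaf.stalk (f x)) (X.presheaf.stalk x) := (f.stalkMap x).hom.toAlgebra
    have h1 : Module.Flat (S.presheaf.stalk (f x)) (X.presheaf.stalk x) := Flat.stalkMap f x
    have h2 : IsLocalHom (algebraMap (S.presheaf.stalk (f x)) (X.presheaf.stalk x)) :=
      inferInstanceAs (IsLocalHom (f.stalkMap x).hom)
    have h3 : IsLocalRing (X.presheaf.stalk x ⧸
        (maximalIdeal (S.presheaf.stalk (f x))).map (algebraMap (S.presheaf.stalk (f x)) (X.presheaf.stalk x))) :=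
      isLocalRing_quot f x
    let e : (X.presheaf.stalk x ⧸
        (maximalIdeal (S.presheaf.stalk (f x))).map (algebraMap (S.presheaf.stalk (f x)) (X.presheaf.stalk x))) ≃+*
        CInt.fiberStalk f x := fiberStalkEquiv f x
    refine Groth.Agent.S2951.result (S.presheaf.stalk (f x)) (X.presheaf.stalk x) ?_ ?_
    · refine hd.trans (le_of_eq ?_)
      symm
      refine depth_eq_of_semilinear e.toRingHom e.surjective e.toAddEquiv ?_
      intro r n
      exact map_mul e r n
    · exact Groth.Agent.Ega4dA.ParaExt.picTrivial_punctured_of_ringEquiv e.symm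
        ((Groth.Agent.Ega4dA.LocalRingCrit.isParafactorialLocalRing_iff _).1 hpf).2

end Groth.Agent.LefX.K947.FibPara
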